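import Cfsg.Agent.Lib.PushRankOne.Sect
import Cfsg.Agent.Lib.Higman.LowerCentralLie

/-!
Commutator tools, coprime stability, facts on natural sections.
-/

set_option autoImplicit false
set_option linter.unusedSectionVars false

namespace CfsgLib.PushRankOne

open CfsgLib.SL2 CfsgLib.SL2Module CfsgLib.SL2Module.Baumann
open scoped MatrixGroups commutatorElement

section Comm

variable {G : Type*} [Group G]

theorem comm_conj (g a b : G) : g * ⁅a, b⁆ * g⁻¹ = ⁅g * a * g⁻¹, g * b * g⁻¹⁆ := by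
  simp only [commutatorElement_def]
  group

theorem comm_mul_right (a x y : G) : ⁅a, x * y⁆ = ⁅a, x⁆ * (x * ⁅a, y⁆ * x⁻¹) := by
  simp only [commutatorElement_def]
  group

theorem comm_mul_left (a b x : G) : ⁅a * b, x⁆ = (a * ⁅b, x⁆ * a⁻¹) * ⁅a, x⁆ := by
  simp only [commutatorElement_def]
  group

theorem conj_mem_of_norm {N : Subgroup G} {x n : G} (hx : x ∈ Subgroup.normalizer (N : Set G))
    (hn : n ∈ N) : x * n * x⁻¹ ∈ N := (Subgroup.mem_normalizer_iff.1 hx n).1 hn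

theorem comm_sup_le {A B C N : Subgroup G} (hB : B ≤ Subgroup.normalizer (N : Set G))
    (hC : C ≤ Subgroup.normalizer (N : Set G)) (h1 : ⁅A, B⁆ ≤ N) (h2 : ⁅A, C⁆ ≤ N) :
    ⁅A, B ⊔ C⁆ ≤ N := by
  let H : Subgroup G :=
    { carrier := {x | x ∈ Subgroup.normalizer (N : Set G) ∧ ∀ a ∈ A, ⁅a, x⁆ ∈ N}
      one_mem' := ⟨one_mem _, fun a _ => by rw [commutatorElement_one_right]; exact one_mem _⟩
      mul_mem' := fun {x y} hx hy => ⟨mul_mem hx.1 hy.1, fun a ha => by
        rw [comm_mul_right]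
        exact mul_mem (hx.2 a ha) (conj_mem_of_norm hx.1 (hy.2 a ha))⟩
      inv_mem' := fun {x} hx => ⟨inv_mem hx.1, fun a ha => by
        rw [show ⁅a, x⁻¹⁆ = x⁻¹ * ⁅a, x⁆⁻¹ * x⁻¹⁻¹ by simp only [commutatorElement_def]; group]
        exact conj_mem_of_norm (inv_mem hx.1) (inv_mem (hx.2 a ha))⟩ }
  have hle : B ⊔ C ≤ H := sup_le (fun x hx => ⟨hB hx, fun a ha => h1 (Subgroup.commutator_mem_commutator ha hx)⟩)
    fun x hx => ⟨hC hx, fun a ha => h2 (Subgroup.commutator_mem_commutator ha hx)⟩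
  exact Subgroup.commutator_le.2 fun a ha x hx => (hle hx).2 a ha

theorem sup_comm_le {A B C N : Subgroup G} (hB : B ≤ Subgroup.normalizer (N : Set G))
    (hC : C ≤ Subgroup.normalizer (N : Set G)) (h1 : ⁅B, A⁆ ≤ N) (h2 : ⁅C, A⁆ ≤ N) :
    ⁅B ⊔ C, A⁆ ≤ N := by
  rw [Subgroup.commutator_comm] at h1 h2 ⊢
  exact comm_sup_le hB hC h1 h2

theorem comm_sup_le_normal {A B C N : Subgroup G} [N.Normal] (h1 : ⁅A, B⁆ ≤ N) (h2 : ⁅A, C⁆ ≤ N) :
    ⁅A, B ⊔ C⁆ ≤ N :=
  comm_sup_le (le_top.trans (Subgroup.normalizer_eq_top (H := N)).ge)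
    (le_top.trans (Subgroup.normalizer_eq_top (H := N)).ge) h1 h2

theorem sup_comm_le_normal {A B C N : Subgroup G} [N.Normal] (h1 : ⁅B, A⁆ ≤ N) (h2 : ⁅C, A⁆ ≤ N) :
    ⁅B ⊔ C, A⁆ ≤ N :=
  sup_comm_le (le_top.trans (Subgroup.normalizer_eq_top (H := N)).ge)
    (le_top.trans (Subgroup.normalizer_eq_top (H := N)).ge) h1 h2

theorem normalClosure_comm_le {A B N : Subgroup G} [hB : B.Normal] [hN : N.Normal] (h : ⁅A, B⁆ ≤ N) :
    ⁅Subgroup.normalClosure (A : Set G), B⁆ ≤ N := by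
  let H : Subgroup G :=
    { carrier := {x | ∀ b ∈ B, ⁅x, b⁆ ∈ N}
      one_mem' := fun b _ => by rw [commutatorElement_one_left]; exact one_mem _
      mul_mem' := fun {x y} hx hy b hb => by
        rw [comm_mul_left]
        exact mul_mem (hN.conj_mem _ (hy b hb) x) (hx b hb)
      inv_mem' := fun {x} hx b hb => by
        rw [show ⁅x⁻¹, b⁆ = x⁻¹ * ⁅x, b⁆⁻¹ * x⁻¹⁻¹ by simp only [commutatorElement_def]; group]
        exact hN.conj_mem _ (inv_mem (hx b hb)) x⁻¹ }
  haveI : H.Normal := ⟨fun x hx g b hb => by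
    have h1 := hN.conj_mem _ (hx _ (hB.conj_mem b hb g⁻¹)) g
    rw [comm_conj, show g * (g⁻¹ * b * g⁻¹⁻¹) * g⁻¹ = b by group] at h1
    exact h1⟩
  exact Subgroup.commutator_le.2 fun x hx b hb =>
    (Subgroup.normalClosure_le_normal (N := H) fun a ha b hb =>
      h (Subgroup.commutator_mem_commutator ha hb)) hx b hb

theorem normal_of_le_center {W : Subgroup G} (h : W ≤ Subgroup.center G) : W.Normal :=
  ⟨fun w hw g => by rw [Subgroup.mem_center_iff.1 (h hw) g, mul_inv_cancel_right]; exact hw⟩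

theorem normal_sup_of_comm {A B : Subgroup G} [hB : B.Normal]
    (h : ∀ g : G, ∀ a ∈ A, ⁅g, a⁆ ∈ A ⊔ B) : (A ⊔ B).Normal := by
  refine ⟨fun x hx g => ?_⟩
  have hle : A ⊔ B ≤ (A ⊔ B).comap (MulAut.conj g).toMonoidHom := sup_le (fun a ha => by
      show g * a * g⁻¹ ∈ A ⊔ B
      rw [show g * a * g⁻¹ = ⁅g, a⁆ * a by simp only [commutatorElement_def]; group]
      exact mul_mem (h g a ha) (Subgroup.mem_sup_left ha))
    fun b hb => Subgroup.mem_sup_right (hB.conj_mem b hb g)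
  exact hle hx

variable [Finite G] {p : ℕ} [hp : Fact p.Prime]

/-- An element of order prime to `p` commuting with its commutator with a `p`-element centralizes it. -/
theorem commute_of_stable {x q : G} {m : ℕ} (hm : Nat.Coprime m p) (hx : x ^ m = 1)
    (hc : Commute x ⁅x, q⁆) {k : ℕ} (hk : ⁅x, q⁆ ^ p ^ k = 1) : Commute x q := by
  set c := ⁅x, q⁆ with hcdef
  have h : ∀ i : ℕ, x ^ i * q * (x ^ i)⁻¹ = c ^ i * q := by
    intro i
    induction i with
    | zero => simp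
    | succ i ih =>
      calc x ^ (i + 1) * q * (x ^ (i + 1))⁻¹ = x * (x ^ i * q * (x ^ i)⁻¹) * x⁻¹ := by
            rw [pow_succ']; group
        _ = x * (c ^ i * q) * x⁻¹ := by rw [ih]
        _ = c ^ i * (x * q * x⁻¹) := by rw [← mul_assoc, (hc.pow_right i).eq]; group
        _ = c ^ i * (c * q) := by
            rw [hcdef, commutatorElement_def, inv_mul_cancel_right]
        _ = _ := by rw [pow_succ c i, mul_assoc]
  have h1 := h m
  rw [hx, one_mul, inv_one, mul_one] at h1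
  have h2 : c ^ m = 1 := mul_eq_right.1 h1.symm
  have h3 : c ∈ (⊥ : Subgroup G) := mem_of_parts (hm.symm.pow_left k)
    (by rw [hk]; exact one_mem _) (by rw [h2]; exact one_mem _)
  exact commutatorElement_eq_one_iff_commute.1 (Subgroup.mem_bot.1 h3)

/-- A normal subgroup stabilising a chain of the core lies in the core. -/
theorem le_pCore_of_stab (hE : Subgroup.centralizer (Cfsg.pCore p G : Set G) ≤ Cfsg.pCore p G)
    {D A B : Subgroup G} (hD : D.Normal) (hA : A ≤ Cfsg.pCore p G) (hB : B ≤ Cfsg.pCore p G)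
    (h1 : ⁅D, Cfsg.pCore p G⁆ ≤ A) (h2 : ⁅D, A⁆ ≤ B) (h3 : ⁅D, B⁆ = ⊥) :
    D ≤ Cfsg.pCore p G := by
  refine Fitting.le_pCore hD fun ⟨x, hx⟩ => ?_
  obtain ⟨a, m, hcop, hmp, hord⟩ := exists_parts p x
  set y := x ^ p ^ a with hy
  have hyD : y ∈ D := pow_mem hx _
  have hym : y ^ m = 1 := by rw [hy, ← pow_mul, ← hord, pow_orderOf_eq_one]
  have hQp : ∀ c ∈ Cfsg.pCore p G, ∃ k, c ^ p ^ k = 1 := fun c hc => by
    obtain ⟨k, hk⟩ := Fitting.pCore_isPGroup (G := G) p ⟨c, hc⟩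
    exact ⟨k, congrArg Subtype.val hk⟩
  have cB : ∀ b ∈ B, Commute y b := fun b hb => commutatorElement_eq_one_iff_commute.1
    (Subgroup.mem_bot.1 (h3.le (Subgroup.commutator_mem_commutator hyD hb)))
  have cA : ∀ b ∈ A, Commute y b := fun b hb => by
    have h := h2 (Subgroup.commutator_mem_commutator hyD hb)
    obtain ⟨k, hk⟩ := hQp _ (hB h)
    exact commute_of_stable hmp hym (cB _ h) hk
  have cQ : ∀ b ∈ Cfsg.pCore p G, Commute y b := fun b hb => by
    have h := h1 (Subgroup.commutator_mem_commutator hyD hb)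
    obtain ⟨k, hk⟩ := hQp _ (hA h)
    exact commute_of_stable hmp hym (cA _ h) hk
  obtain ⟨k, hk⟩ := hQp y (hE (Subgroup.mem_centralizer_iff.2 fun b hb => (cQ b hb).symm.eq))
  exact ⟨a + k, Subtype.ext (by rw [SubmonoidClass.coe_pow, pow_add, pow_mul]; exact hk)⟩

end Comm

/-! ### Matrices -/

section Matrices

variable {F : Type*} [Field F] [Finite F]

theorem mulVec_apply (m : Matrix (Fin 2) (Fin 2) F) (v : Fin 2 → F) (i : Fin 2) :
    m.mulVec v i = m i 0 * v 0 + m i 1 * v 1 := by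
  simp [Matrix.mulVec, dotProduct, Fin.sum_univ_two]

theorem neg_one_mulVec (v : Fin 2 → F) :
    ((-1 : SL(2, F)) : Matrix (Fin 2) (Fin 2) F).mulVec v = -v := by
  rw [Matrix.SpecialLinearGroup.coe_neg, Matrix.SpecialLinearGroup.coe_one, Matrix.neg_mulVec,
    Matrix.one_mulVec]

/-- An element all of whose conjugates are upper triangular is `1` or `-1`. -/
theorem scalar_of_conj (m : SL(2, F))
    (h : ∀ g : SL(2, F), ((g * m * g⁻¹ : SL(2, F)) : Matrix (Fin 2) (Fin 2) F) 1 0 = 0) :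
    m = 1 ∨ m = -1 := by
  have h1 := h 1
  simp at h1
  have h2 := h wm
  have h3 := h (wm * upperHom (Multiplicative.ofAdd 1))
  simp [wm_coe, upperHom_coe, Matrix.SpecialLinearGroup.coe_inv, Matrix.adjugate_fin_two,
    Matrix.mul_apply, Matrix.vecMul, dotProduct, Fin.sum_univ_two, h1] at h2 h3
  have hdet := m.det_coe
  rw [Matrix.det_fin_two, h1, mul_zero, sub_zero] at hdet
  have e01 : (m : Matrix (Fin 2) (Fin 2) F) 0 1 = 0 := by linear_combination h2
  have ed : (m : Matrix (Fin 2) (Fin 2) F) 0 0 = (m : Matrix (Fin 2) (Fin 2) F) 1 1 := by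
    linear_combination h3 + h2
  rw [← ed] at hdet
  rcases mul_self_eq_one_iff.1 hdet with e | e
  · left
    refine Subtype.ext ?_
    ext i j
    fin_cases i <;> fin_cases j <;> simp [e01, h1, e, ← ed]
  · right
    refine Subtype.ext ?_
    ext i j
    fin_cases i <;> fin_cases j <;> simp [e01, h1, e, ← ed]

/-- An element commuting with the two root groups is `1` or `-1`. -/
theorem scalar_of_comm (m : SL(2, F)) (hu : Commute m (upperHom (Multiplicative.ofAdd 1)))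
    (hl : Commute m (wm * upperHom (Multiplicative.ofAdd 1) * wm⁻¹)) : m = 1 ∨ m = -1 := by
  have h1 := congrArg (fun g : SL(2, F) => (g : Matrix (Fin 2) (Fin 2) F) 0 0) hu.eq
  have h2 := congrArg (fun g : SL(2, F) => (g : Matrix (Fin 2) (Fin 2) F) 0 1) hu.eq
  have h3 := congrArg (fun g : SL(2, F) => (g : Matrix (Fin 2) (Fin 2) F) 0 0) hl.eq
  simp [wm_coe, upperHom_coe, Matrix.SpecialLinearGroup.coe_inv, Matrix.adjugate_fin_two,
    Matrix.mul_apply, Fin.sum_univ_two] at h1 h2 h3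
  have hdet := m.det_coe
  rw [Matrix.det_fin_two] at hdet
  have e10 : (m : Matrix (Fin 2) (Fin 2) F) 1 0 = 0 := by linear_combination h1
  have e01 : (m : Matrix (Fin 2) (Fin 2) F) 0 1 = 0 := by linear_combination h3
  have ed : (m : Matrix (Fin 2) (Fin 2) F) 0 0 = (m : Matrix (Fin 2) (Fin 2) F) 1 1 := by
    linear_combination h2
  rw [e10, e01, mul_zero, sub_zero, ← ed] at hdet
  rcases mul_self_eq_one_iff.1 hdet with e | e
  · left
    refine Subtype.ext ?_
    ext i j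
    fin_cases i <;> fin_cases j <;> simp [e01, e10, e, ← ed]
  · right
    refine Subtype.ext ?_
    ext i j
    fin_cases i <;> fin_cases j <;> simp [e01, e10, e, ← ed]

theorem upper_pow_char (p : ℕ) [CharP F p] (c : Multiplicative F) : upperHom c ^ p = 1 := by
  rw [← map_pow, show c ^ p = 1 from Multiplicative.toAdd.injective (by
    rw [toAdd_pow, toAdd_one, nsmul_eq_mul, CharP.cast_eq_zero, zero_mul]), map_one]

/-- An element commuting with everything up to `±1` is `±1` in odd characteristic. -/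
theorem scalar_of_comm_sign {p : ℕ} [hp : Fact p.Prime] [CharP F p] (hp2 : p ≠ 2) (m : SL(2, F))
    (h : ∀ g : SL(2, F), ⁅m, g⁆ = 1 ∨ ⁅m, g⁆ = -1) : m = 1 ∨ m = -1 := by
  have hodd : Odd p := hp.out.odd_of_ne_two hp2
  have key : ∀ u : SL(2, F), u ^ p = 1 → Commute m u := by
    intro u hu
    rcases h u with e | e
    · exact commutatorElement_eq_one_iff_commute.1 e
    · exfalso
      have h1 : m * u * m⁻¹ = -1 * u := by rw [← e, commutatorElement_def, inv_mul_cancel_right]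
      have h2 : (m * u * m⁻¹) ^ p = 1 := by rw [conj_pow, hu]; group
      rw [h1, (Commute.neg_one_left u).mul_pow, hu, mul_one, hodd.neg_one_pow] at h2
      have h3 := congrArg (fun g : SL(2, F) => (g : Matrix (Fin 2) (Fin 2) F) 0 0) h2
      simp at h3
      have h4 : ((2 : ℕ) : F) = 0 := by push_cast; linear_combination -h3
      rw [CharP.cast_eq_zero_iff F p] at h4
      exact hp2 ((Nat.prime_dvd_prime_iff_eq hp.out Nat.prime_two).1 h4)
  refine scalar_of_comm m (key _ (upper_pow_char p _)) (key _ ?_)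
  rw [conj_pow, upper_pow_char p]
  group

end Matrices

/-! ### Natural sections -/

variable {G : Type*} [Group G] [Finite G] {p : ℕ} [hp : Fact p.Prime]
variable {F : Type} [Field F] [Fintype F] [CharP F p]
variable {S : Sylow p G} {M U N : Subgroup G} {ρ : G →* SL(2, F)} {ψ : G → Fin 2 → F}

/-- The elements of `U` fixed modulo `N` by the whole group. -/
def fixMod (U N : Subgroup G) [hN : N.Normal] : Subgroup G where
  carrier := {a | a ∈ U ∧ ∀ g : G, ⁅g, a⁆ ∈ N}
  one_mem' := ⟨one_mem _, fun g => by rw [commutatorElement_one_right]; exact one_mem _⟩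
  mul_mem' := fun {a b} ha hb => ⟨mul_mem ha.1 hb.1, fun g => by
    rw [comm_mul_right]
    exact mul_mem (ha.2 g) (hN.conj_mem _ (hb.2 g) a)⟩
  inv_mem' := fun {a} ha => ⟨inv_mem ha.1, fun g => by
    rw [show ⁅g, a⁻¹⁆ = a⁻¹ * ⁅g, a⁆⁻¹ * a⁻¹⁻¹ by simp only [commutatorElement_def]; group]
    exact hN.conj_mem _ (inv_mem (ha.2 g)) a⁻¹⟩

instance fixMod_normal (U N : Subgroup G) [hU : U.Normal] [hN : N.Normal] : (fixMod U N).Normal :=
  ⟨fun a ha h => ⟨hU.conj_mem a ha.1 h, fun g => by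
    have h1 := hN.conj_mem _ (ha.2 (h⁻¹ * g * h)) h
    rwa [comm_conj, show h * (h⁻¹ * g * h) * h⁻¹ = g by group] at h1⟩⟩

theorem mem_fixMod {U N : Subgroup G} [N.Normal] {a : G} :
    a ∈ fixMod U N ↔ a ∈ U ∧ ∀ g : G, ⁅g, a⁆ ∈ N := Iff.rfl

theorem fixMod_le (U N : Subgroup G) [N.Normal] : fixMod U N ≤ U := fun _ h => h.1

theorem fixMod_bot (U : Subgroup G) : fixMod U (⊥ : Subgroup G) = U ⊓ Subgroup.center G := by
  ext a
  simp only [mem_fixMod, Subgroup.mem_inf, Subgroup.mem_bot, Subgroup.mem_center_iff,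
    commutatorElement_eq_one_iff_mul_comm]

theorem comm_fixMod_le (U N : Subgroup G) [N.Normal] (H : Subgroup G) : ⁅H, fixMod U N⁆ ≤ N :=
  Subgroup.commutator_le.2 fun g _ _ ha => ha.2 g

namespace Natural

theorem le_fixMod [N.Normal] (hNU : N ≤ U) : N ≤ fixMod U N := fun a ha =>
  ⟨hNU ha, fun g => by
    rw [commutatorElement_def]
    exact mul_mem (Subgroup.Normal.conj_mem inferInstance a ha g) (inv_mem ha)⟩

theorem mem_fix [N.Normal] (h : Natural S M U N ρ ψ) {a : G} (ha : a ∈ U) :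
    ψ a = 0 ↔ a ∈ fixMod U N := by
  rw [h.zero a ha, mem_fixMod, and_iff_right ha]

theorem map_one (h : Natural S M U N ρ ψ) : ψ 1 = 0 := by
  have := h.add 1 (one_mem _) 1 (one_mem _)
  rw [mul_one] at this
  exact left_eq_add.1 this

theorem map_inv (h : Natural S M U N ρ ψ) {a : G} (ha : a ∈ U) : ψ a⁻¹ = -ψ a := by
  rw [eq_neg_iff_add_eq_zero, ← h.add _ (inv_mem ha) _ ha, inv_mul_cancel, h.map_one]

theorem map_div (h : Natural S M U N ρ ψ) {a b : G} (ha : a ∈ U) (hb : b ∈ U) :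
    ψ (a * b⁻¹) = ψ a - ψ b := by
  rw [h.add _ ha _ (inv_mem hb), h.map_inv hb, sub_eq_add_neg]

theorem map_comm [hU : U.Normal] (h : Natural S M U N ρ ψ) (g : G) {a : G} (ha : a ∈ U) :
    ⁅g, a⁆ ∈ U ∧ ψ ⁅g, a⁆ = (ρ g : Matrix (Fin 2) (Fin 2) F).mulVec (ψ a) - ψ a := by
  rw [commutatorElement_def]
  refine ⟨mul_mem (hU.conj_mem a ha g) (inv_mem ha), ?_⟩
  rw [h.map_div (hU.conj_mem a ha g) ha, h.equiv g a ha]

theorem map_comm_upper [U.Normal] (h : Natural S M U N ρ ψ) {s : G} {c : F}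
    (hc : ρ s = upperHom (Multiplicative.ofAdd c)) {a : G} (ha : a ∈ U) :
    ψ ⁅s, a⁆ = ![c * ψ a 1, 0] := by
  rw [(h.map_comm s ha).2, hc]
  ext i
  fin_cases i <;> simp [mulVec_apply, upperHom_coe, Matrix.vecHead, Matrix.vecTail]

/-- An invariant subgroup of `U` is inside the fixed points or covers the section. -/
theorem dichotomy [N.Normal] (h : Natural S M U N ρ ψ) (H : Subgroup G) [hH : H.Normal]
    (hHU : H ≤ U) : H ≤ fixMod U N ∨ ∀ z, ∃ a ∈ H, ψ a = z := by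
  by_cases h0 : H ≤ fixMod U N
  · exact Or.inl h0
  right
  obtain ⟨a, ha, hna⟩ := SetLike.not_le_iff_exists.1 h0
  let W : AddSubgroup (Fin 2 → F) :=
    { carrier := {z | ∃ a ∈ H, ψ a = z}
      zero_mem' := ⟨1, one_mem _, h.map_one⟩
      add_mem' := by
        rintro _ _ ⟨a, ha, rfl⟩ ⟨b, hb, rfl⟩
        exact ⟨a * b, mul_mem ha hb, h.add a (hHU ha) b (hHU hb)⟩
      neg_mem' := by
        rintro _ ⟨a, ha, rfl⟩
        exact ⟨a⁻¹, inv_mem ha, h.map_inv (hHU ha)⟩ }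
  have hW : W = ⊤ := CfsgLib.LocalCGT.derived_span W (fun m _ z ⟨b, hb, e⟩ => by
      obtain ⟨g, rfl⟩ := h.surj m
      exact ⟨g * b * g⁻¹, hH.conj_mem b hb g, by rw [h.equiv g b (hHU hb), e]⟩)
    (v := ψ a) ⟨a, ha, rfl⟩ fun e => hna ((h.mem_fix (hHU ha)).1 e)
  exact fun z => hW.ge (AddSubgroup.mem_top z)

/-- A normal subgroup of `M` acts as `1` or `-1`. -/
theorem scalar (h : Natural S M U N ρ ψ) {D : Subgroup G} (hD : D.Normal) (hDM : D ≤ M) {d : G}
    (hd : d ∈ D) : ρ d = 1 ∨ ρ d = -1 := by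
  refine scalar_of_conj _ fun m => ?_
  obtain ⟨g, rfl⟩ := h.surj m
  rw [← _root_.map_mul, ← _root_.map_inv, ← _root_.map_mul]
  exact (h.borel _).1 (hDM (hD.conj_mem d hd g))

end Natural

end CfsgLib.PushRankOne
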