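import Cfsg.Agent.Lib.PushRankOne.Common

/-!
The part of a natural section inverted by an element acting as `-1`.
-/

set_option autoImplicit false
set_option linter.unusedSectionVars false

namespace CfsgLib.PushRankOne

open CfsgLib.SL2 CfsgLib.SL2Module CfsgLib.SL2Module.Baumann
open scoped MatrixGroups commutatorElement

variable {G : Type*} [Group G] [Finite G] {p : ℕ} [hp : Fact p.Prime]
variable {F : Type} [Field F] [Fintype F] [CharP F p]
variable {S : Sylow p G} {M U N : Subgroup G} {ρ : G →* SL(2, F)} {ψ : G → Fin 2 → F}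

theorem two_ne_zero_of_ne_two (hp2 : p ≠ 2) : (2 : F) ≠ 0 := fun e => hp2
  ((Nat.prime_dvd_prime_iff_eq hp.out Nat.prime_two).1 ((CharP.cast_eq_zero_iff F p 2).1
    (by exact_mod_cast e)))

namespace Natural

theorem psi_congr [hN : N.Normal] (h : Natural S M U N ρ ψ) (hNU : N ≤ U) {a c : G} (ha : a ∈ U)
    (hc : c ∈ U) (e : (a : G ⧸ N) = c) : ψ a = ψ c := by
  have h1 : a⁻¹ * c ∈ fixMod U N := le_fixMod hNU (QuotientGroup.eq.1 e)
  rw [← h.mem_fix (fixMod_le U N h1), h.add _ (inv_mem ha) _ hc, h.map_inv ha, neg_add_eq_zero] at h1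
  exact h1

theorem comm_congr [hU : U.Normal] [hN : N.Normal] (h : Natural S M U N ρ ψ) {g k : G} (e : ρ g = ρ k)
    {u : G} (hu : u ∈ U) : ((⁅g, u⁆ : G) : G ⧸ N) = ((⁅k, u⁆ : G) : G ⧸ N) := by
  have h1 := (h.ker (k⁻¹ * g)).1 (by rw [_root_.map_mul, _root_.map_inv, e, inv_mul_cancel]) u hu
  rw [show g = k * (k⁻¹ * g) by group, comm_mul_left, QuotientGroup.mk_mul,
    (QuotientGroup.eq_one_iff _).2 (hN.conj_mem _ h1 k), one_mul]

end Natural

/-- The subgroup of commutators with an element acting as `-1`. -/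
def negPart (U N : Subgroup G) [hN : N.Normal] (hNU : N ≤ U) (hab : ⁅U, U⁆ ≤ N) (x : G) : Subgroup G where
  carrier := {a | a ∈ U ∧ ∃ u ∈ U, (a : G ⧸ N) = ((⁅x, u⁆ : G) : G ⧸ N) ∧ ⁅x, u⁆ ∈ U}
  one_mem' := ⟨one_mem _, 1, one_mem _, by rw [commutatorElement_one_right], by
    rw [commutatorElement_one_right]; exact one_mem _⟩
  mul_mem' := by
    rintro a c ⟨ha, u, hu, e, h1⟩ ⟨hc, w, hw, e', h2⟩
    have hconj : ((u * ⁅x, w⁆ * u⁻¹ : G) : G ⧸ N) = ((⁅x, w⁆ : G) : G ⧸ N) := by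
      rw [show u * ⁅x, w⁆ * u⁻¹ = ⁅u, ⁅x, w⁆⁆ * ⁅x, w⁆ by simp only [commutatorElement_def]; group,
        QuotientGroup.mk_mul,
        (QuotientGroup.eq_one_iff _).2 (hab (Subgroup.commutator_mem_commutator hu h2)), one_mul]
    refine ⟨mul_mem ha hc, u * w, mul_mem hu hw, ?_, ?_⟩
    · rw [comm_mul_right, QuotientGroup.mk_mul, QuotientGroup.mk_mul, hconj, e, e']
    · rw [comm_mul_right]
      exact mul_mem h1 (mul_mem (mul_mem hu h2) (inv_mem hu))
  inv_mem' := by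
    rintro a ⟨ha, u, hu, e, h1⟩
    have e1 : ⁅x, u⁻¹⁆ = u⁻¹ * ⁅x, u⁆⁻¹ * u := by simp only [commutatorElement_def]; group
    refine ⟨inv_mem ha, u⁻¹, inv_mem hu, ?_, ?_⟩
    · rw [e1, show u⁻¹ * ⁅x, u⁆⁻¹ * u = ⁅u⁻¹, ⁅x, u⁆⁻¹⁆ * ⁅x, u⁆⁻¹ by
          simp only [commutatorElement_def]; group,
        QuotientGroup.mk_mul, (QuotientGroup.eq_one_iff _).2
          (hab (Subgroup.commutator_mem_commutator (inv_mem hu) (inv_mem h1))), one_mul,
        QuotientGroup.mk_inv, QuotientGroup.mk_inv, e]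
    · rw [e1]
      exact mul_mem (mul_mem (inv_mem hu) (inv_mem h1)) hu

variable [hUn : U.Normal] [hNn : N.Normal] (h : Natural S M U N ρ ψ) (hNU : N ≤ U) (hab : ⁅U, U⁆ ≤ N)
  {x : G} (hx : ρ x = -1)

theorem mem_negPart_iff {a : G} : a ∈ negPart U N hNU hab x ↔
    a ∈ U ∧ ∃ u ∈ U, (a : G ⧸ N) = ((⁅x, u⁆ : G) : G ⧸ N) ∧ ⁅x, u⁆ ∈ U := Iff.rfl

theorem negPart_le : negPart U N hNU hab x ≤ U := fun _ h => h.1

theorem le_negPart : N ≤ negPart U N hNU hab x := fun a ha => ⟨hNU ha, 1, one_mem _, by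
  rw [commutatorElement_one_right]
  exact (QuotientGroup.eq_one_iff _).2 ha, by rw [commutatorElement_one_right]; exact one_mem _⟩

include h hx

theorem negPart_normal : (negPart U N hNU hab x).Normal := by
  refine ⟨fun a ⟨ha, u, hu, e, h1⟩ g => ⟨hUn.conj_mem a ha g, g * u * g⁻¹, hUn.conj_mem u hu g, ?_,
    (h.map_comm x (hUn.conj_mem u hu g)).1⟩⟩
  rw [← h.comm_congr (g := g * x * g⁻¹) (k := x) ?_ (hUn.conj_mem u hu g), ← comm_conj,
    QuotientGroup.mk_mul, QuotientGroup.mk_mul, e, ← QuotientGroup.mk_mul, ← QuotientGroup.mk_mul]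
  rw [_root_.map_mul, _root_.map_mul, _root_.map_inv, hx, Commute.neg_one_right (ρ g) |>.eq, mul_assoc,
    mul_inv_cancel, mul_one]

theorem psi_comm_neg {u : G} (hu : u ∈ U) : ψ ⁅x, u⁆ = -(ψ u + ψ u) := by
  rw [(h.map_comm x hu).2, hx, neg_one_mulVec]
  abel

theorem negPart_comm (hp2 : p ≠ 2) (g : G) {a : G} (ha : a ∈ U) : ⁅g, a⁆ ∈ negPart U N hNU hab x := by
  obtain ⟨u, hu, e⟩ := h.onto (-((2 : F)⁻¹ • ψ a))
  obtain ⟨hcU, hψ⟩ := h.map_comm x hu
  have hc : ⁅x, u⁆ ∈ negPart U N hNU hab x := ⟨hcU, u, hu, rfl, hcU⟩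
  have hfix : ⁅x, u⁆⁻¹ * a ∈ fixMod U N := by
    rw [← h.mem_fix (mul_mem (inv_mem hcU) ha), h.add _ (inv_mem hcU) _ ha, h.map_inv hcU,
      psi_comm_neg h hx hu, e, neg_add_eq_zero]
    ext i
    simp only [Pi.neg_apply, Pi.add_apply, Pi.smul_apply, smul_eq_mul]
    have := two_ne_zero_of_ne_two (F := F) hp2
    field_simp
    ring
  haveI := negPart_normal h hNU hab hx
  rw [show a = ⁅x, u⁆ * (⁅x, u⁆⁻¹ * a) by group, comm_mul_right]
  refine mul_mem ?_ (Subgroup.Normal.conj_mem inferInstance _ (le_negPart hNU hab (hfix.2 g)) _)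
  rw [commutatorElement_def g]
  exact mul_mem (Subgroup.Normal.conj_mem inferInstance _ hc g) (inv_mem hc)

theorem negPart_fix (hp2 : p ≠ 2) {a : G} (ha : a ∈ negPart U N hNU hab x) (hf : a ∈ fixMod U N) :
    a ∈ N := by
  obtain ⟨haU, u, hu, e, hcU⟩ := ha
  have h1 := h.psi_congr hNU haU hcU e
  rw [(h.mem_fix haU).2 hf, psi_comm_neg h hx hu, eq_comm, neg_eq_zero] at h1
  have hu0 : ψ u = 0 := funext fun i => by
    have h2 := congrFun h1 i
    simp only [Pi.add_apply, Pi.zero_apply, ← two_mul] at h2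
    exact (mul_eq_zero.1 h2).resolve_left (two_ne_zero_of_ne_two hp2)
  rw [← QuotientGroup.eq_one_iff (N := N), e, QuotientGroup.eq_one_iff]
  exact ((h.mem_fix hu).1 hu0).2 x

end CfsgLib.PushRankOne
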