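import Cfsg.Agent.Lib.PushRankOne.CaseTwo
import Cfsg.Agent.Lib.PushRankOne.NegPart

/-!
The second case in odd characteristic: the Sylow subgroup does not act quadratically on the second
module, both kernels are the core and the characteristic is three.
-/

set_option autoImplicit false
set_option linter.unusedSectionVars false

namespace CfsgLib.PushRankOne

open CfsgLib.SL2 CfsgLib.SL2Module CfsgLib.SL2Module.Baumann
open scoped MatrixGroups commutatorElement

variable {G : Type*} [Group G] [Finite G] {p : ℕ} [hp : Fact p.Prime]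
variable {F : Type} [Field F] [Fintype F] [CharP F p]
variable {S : Sylow p G} {M : Subgroup G} {π : G →* Matrix.ProjectiveSpecialLinearGroup (Fin 2) F}
variable {ρV : G →* SL(2, F)} {ψV : G → Fin 2 → F}
variable {α : MulAut (S : Subgroup G)} {ρY : G →* SL(2, F)} {ψY : G → Fin 2 → F}

theorem Base.R_inf_center (b : Base S M π ρV ψV) (hp2 : p ≠ 2) : Rc S ⊓ Subgroup.center G = ⊥ := by
  obtain ⟨x, hx⟩ := b.nat.surj (-1)
  have hab : ⁅Vc S, Vc S⁆ ≤ (⊥ : Subgroup G) :=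
    ((Subgroup.commutator_mono b.V_le_Q le_rfl).trans b.Q_comm_V.le)
  have hR : Rc S ≤ negPart (Vc S) ⊥ bot_le hab x := by
    rw [Rc, Subgroup.commutator_comm]
    exact Subgroup.commutator_le.2 fun s _ v hv => negPart_comm b.nat bot_le hab hx hp2 s hv
  refine le_bot_iff.1 fun r hr => negPart_fix b.nat bot_le hab hx hp2 (hR hr.1) ?_
  rw [fixMod_bot]
  exact ⟨b.R_le_Z.trans b.Z_le_V hr.1, hr.2⟩

theorem symm_aux {za zb e e' a c X : G} (h1 : za * (e' * e) = a * X * c) (h2 : X = zb * (e * e'))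
    (hc : Commute c X) (hr : Commute ⁅e, e'⁆ zb) : za = a * c * ⁅e, e'⁆ * zb := by
  have h3 : e * e' = ⁅e, e'⁆ * (e' * e) := by rw [commutatorElement_def]; group
  rw [mul_assoc a X c, ← hc.eq, h2, h3, ← mul_assoc zb, hr.eq.symm] at h1
  refine mul_right_cancel (b := e' * e) (h1.trans ?_)
  simp only [mul_assoc]

/-- The first coordinate of `[s, e]` in the first module. -/
def form (ψ : G → Fin 2 → F) (y s t : G) : F := ψ ⁅t, ⁅s, y⁆⁆ 0

namespace Two

variable (h : Two S M π ρV ψV α ρY ψY)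
include h

theorem exists_T_psi (c : F) : ∃ t ∈ Tc S α, ψY t = ![c, 0] := by
  obtain ⟨s, hs, hc⟩ := h.nat.upper_onto c
  obtain ⟨a, ha, e⟩ := h.nat.onto ![0, 1]
  refine ⟨⁅s, a⁆, Subgroup.mem_sup_left ?_, ?_⟩
  · rw [Subgroup.commutator_comm]
    exact Subgroup.commutator_mem_commutator hs ha
  · rw [h.nat.map_comm_upper hc ha, e]
    simp

theorem split_U {u : G} (hu : u ∈ act α (Vc S)) :
    ∃ w ∈ Tc S α, w⁻¹ * u ∈ fixMod (Yc S α) (Vc S) := by
  have huY := h.hyp.U_le_Y hu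
  have h0 := h.E_zero (a := u) ⟨huY, h.hyp.U_le_aQ hu⟩
  obtain ⟨w, hw, e⟩ := h.exists_T_psi (ψY u 0)
  refine ⟨w, hw, ?_⟩
  rw [← h.nat.mem_fix (mul_mem (inv_mem (h.T_le_Y hw)) huY), h.nat.add _ (inv_mem (h.T_le_Y hw)) _ huY,
    h.nat.map_inv (h.T_le_Y hw), e, neg_add_eq_zero]
  ext i
  fin_cases i
  · rfl
  · exact h0.symm

theorem not_full_fix (hp2 : p ≠ 2) : ∀ z ∈ Tc S α,
    z ∈ Subgroup.centralizer (Cfsg.pCore p G : Set G) → z ∈ Vc S := by
  have b := h.hyp.base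
  haveI := b.Q_normal
  obtain ⟨x, hx⟩ := h.nat.surj (-1)
  have hab : ⁅Yc S α, Yc S α⁆ ≤ Vc S := h.hyp.comm_Y_Y.trans h.hyp.R_le_V
  set Ym := negPart (Yc S α) (Vc S) h.hyp.V_le_Y hab x with hYm
  haveI : Ym.Normal := negPart_normal h.nat h.hyp.V_le_Y hab hx
  have hT : Tc S α ≤ Ym := by
    refine sup_le ?_ (b.Z_le_V.trans (le_negPart h.hyp.V_le_Y hab))
    rw [Subgroup.commutator_comm]
    exact Subgroup.commutator_le.2 fun s _ a ha => negPart_comm h.nat h.hyp.V_le_Y hab hx hp2 s ha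
  haveI : (Subgroup.centralizer (Cfsg.pCore p G : Set G)).Normal := Subgroup.normal_centralizer
  set D := Ym ⊓ Subgroup.centralizer (Cfsg.pCore p G : Set G) with hD
  intro z hzT hzC
  rcases h.nat.cover D (inf_le_left.trans (negPart_le h.hyp.V_le_Y hab)) with h0 | h0
  · exact negPart_fix h.nat h.hyp.V_le_Y hab hx hp2 (hT hzT) (h0 ⟨hT hzT, hzC⟩)
  exfalso
  have hVC : Vc S ≤ Subgroup.centralizer (Cfsg.pCore p G : Set G) := fun v hv =>
    Subgroup.mem_centralizer_iff.2 fun q hq => (b.commute_Q hq hv).eq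
  -- the whole negative part centralizes the core
  have hYC : Ym ≤ Subgroup.centralizer (Cfsg.pCore p G : Set G) := by
    intro a ha
    have ha' : a ∈ ((D ⊔ fixMod (Yc S α) (Vc S) : Subgroup G) : Set G) :=
      h0 (negPart_le h.hyp.V_le_Y hab ha)
    rw [Subgroup.mul_normal] at ha'
    obtain ⟨d, hd, f, hf, rfl⟩ := ha'
    have h1 : f ∈ Ym := by
      have := mul_mem (inv_mem (show d ∈ Ym from hd.1)) ha
      rwa [inv_mul_cancel_left] at this
    exact mul_mem hd.2 (hVC (negPart_fix h.nat h.hyp.V_le_Y hab hx hp2 h1 hf))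
  obtain ⟨g, hg⟩ := b.exists_not_mem_M
  have key : ∀ u ∈ act α (Vc S), ∀ y ∈ cj g (act α (Vc S)), Commute u y := by
    intro u hu y hy
    obtain ⟨w, hw, hn⟩ := h.split_U hu
    set n := w⁻¹ * u with hn'
    have hyQ := h.hyp.cj_U_le g hy
    have hwC : ∀ q ∈ Cfsg.pCore p G, Commute q w := fun q hq =>
      Subgroup.mem_centralizer_iff.1 (hYC (hT hw)) q hq
    rw [mem_cj] at hy
    have hv := hn.2 g⁻¹
    have h1 : Commute n (g⁻¹ * y * g) :=
      ((hwC _ (h.hyp.U_le_Q hy)).symm.inv_left).mul_left (b.act_V_abelian α u hu _ hy)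
    have h2 : Commute (g⁻¹ * n * g) (g⁻¹ * y * g) := by
      rw [show g⁻¹ * n * g = ⁅g⁻¹, n⁆ * n by simp only [commutatorElement_def]; group]
      exact ((b.commute_Q (h.hyp.U_le_Q hy) hv).symm).mul_left h1
    have h3 := h2.map (MulAut.conj g).toMonoidHom
    have h4 : Commute n y := by simpa [mul_assoc] using h3
    have h5 := (hwC y hyQ).symm.mul_left h4
    rwa [hn', mul_inv_cancel_left] at h5
  refine not_le_pCore b.st ((h.hyp.full g hg).ge.trans (sup_le ?_ le_rfl))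
  intro k hk
  refine b.centralizer_inf_S ⟨Subgroup.mem_centralizer_iff.2 fun v hv => ?_, act_le _ _ hk⟩
  obtain ⟨y, hy, rfl⟩ := mem_act.1 hk
  have h1 : α ⟨v, b.V_le_S hv⟩ * y = y * α ⟨v, b.V_le_S hv⟩ :=
    Subtype.ext (key _ (mem_act_of_mem α (h := ⟨v, b.V_le_S hv⟩) hv) y hy).eq
  have h2 := congrArg (α⁻¹ : MulAut (S : Subgroup G)) h1
  rw [map_mul, map_mul, MulAut.inv_apply_self] at h2
  exact congrArg Subtype.val h2

theorem not_quadratic (hp2 : p ≠ 2) : ∃ y ∈ Yc S α, ∃ s ∈ (S : Subgroup G), ∃ t ∈ (S : Subgroup G),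
    ⁅t, ⁅s, y⁆⁆ ∉ Subgroup.center G := by
  by_contra hcon
  push Not at hcon
  have b := h.hyp.base
  haveI := b.Q_normal
  haveI := h.hyp.R_normal
  let C : Subgroup G :=
    { carrier := {t | ∀ s ∈ (S : Subgroup G), ⁅s, t⁆ ∈ Subgroup.center G}
      one_mem' := fun s _ => by rw [commutatorElement_one_right]; exact one_mem _
      mul_mem' := fun {a c} ha hc s hs => by
        rw [comm_mul_right]
        exact mul_mem (ha s hs) (Subgroup.Normal.conj_mem inferInstance _ (hc s hs) a)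
      inv_mem' := fun {a} ha s hs => by
        rw [show ⁅s, a⁻¹⁆ = a⁻¹ * ⁅s, a⁆⁻¹ * a⁻¹⁻¹ by simp only [commutatorElement_def]; group]
        exact Subgroup.Normal.conj_mem inferInstance _ (inv_mem (ha s hs)) a⁻¹ }
  have hTC : Tc S α ≤ C := by
    refine sup_le ?_ fun z hz s hs => ?_
    · rw [Subgroup.commutator_comm]
      exact Subgroup.commutator_le.2 fun s hs a ha t ht => hcon a ha s hs t ht
    · rw [commutatorElement_eq_one_iff_commute.2 (b.Z_commute hz hs).symm]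
      exact one_mem _
  -- the commutators of `T` with the Sylow subgroup lie in the image of `R`
  have hTR : ∀ t ∈ Tc S α, ∀ s ∈ (S : Subgroup G), ⁅t, s⁆ ∈ act α (Rc S) := by
    intro t ht s hs
    have h1 : ⁅t, s⁆ ∈ ((Rc S ⊔ act α (Rc S) : Subgroup G) : Set G) :=
      h.hyp.comm_E_S (Subgroup.commutator_mem_commutator (h.T_le_E ht) hs)
    rw [Subgroup.mul_normal] at h1
    obtain ⟨r, hr, r', hr', e⟩ := h1
    have e : r * r' = ⁅t, s⁆ := e
    have h2 : r ∈ Rc S ⊓ Subgroup.center G := ⟨hr, by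
      rw [show r = r * r' * r'⁻¹ by group, e, ← commutatorElement_inv]
      have h3 : ⁅s, t⁆ ∈ Subgroup.center G := hTC ht s hs
      have h4 : r' ∈ Subgroup.center G := h.hyp.central hr'
      exact Subgroup.mul_mem _ (Subgroup.inv_mem _ h3) (Subgroup.inv_mem _ h4)⟩
    rw [b.R_inf_center hp2, Subgroup.mem_bot] at h2
    rw [← e, h2, one_mul]
    exact hr'
  have hUT : act α (Vc S) ≤ Tc S α := by
    intro u hu
    obtain ⟨w, hw, hn⟩ := h.split_U hu
    set n := w⁻¹ * u with hn'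
    have hnY := hn.1
    have hnS : ∀ s ∈ (S : Subgroup G), ⁅n, s⁆ ∈ act α (Rc S) := by
      intro s hs
      rw [hn', comm_mul_left]
      refine mul_mem (Subgroup.Normal.conj_mem inferInstance _ ?_ _) (hTR _ (inv_mem hw) s hs)
      rw [← b.comm_act_V α]
      exact Subgroup.commutator_mem_commutator hu hs
    obtain ⟨v, hv, hvu⟩ := mem_act.1 hu
    set wS : (S : Subgroup G) := ⟨w, h.T_le_S hw⟩ with hwS
    set nS : (S : Subgroup G) := ⟨n, h.hyp.Y_le_S hnY⟩ with hnS'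
    have hαv : α v = wS * nS := Subtype.ext (by
      show ((α v : (S : Subgroup G)) : G) = w * n
      rw [hvu, hn', mul_inv_cancel_left])
    have hw' : ((α⁻¹ wS : (S : Subgroup G)) : G) ∈ Tc S α :=
      h.act_T' ▸ mem_act_of_mem α⁻¹ (h := wS) hw
    have hv' : v = α⁻¹ wS * α⁻¹ nS := by
      rw [← map_mul, ← hαv, MulAut.inv_apply_self]
    have hn1 : ∀ s : (S : Subgroup G), ((⁅α⁻¹ nS, s⁆ : (S : Subgroup G)) : G) ∈ Rc S := by
      intro s
      have h1 : ((⁅nS, α s⁆ : (S : Subgroup G)) : G) ∈ act α (Rc S) := hnS _ (α s).2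
      have h2 : ((α⁻¹ ⁅nS, α s⁆ : (S : Subgroup G)) : G) ∈ act α⁻¹ (act α (Rc S)) :=
        mem_act_of_mem α⁻¹ h1
      rwa [map_commutatorElement, MulAut.inv_apply_self,
        act_inv_act α (b.R_le_Z.trans b.Z_le_S)] at h2
    have hwC : ((α⁻¹ wS : (S : Subgroup G)) : G) ∈ Subgroup.centralizer (Cfsg.pCore p G : Set G) := by
      refine Subgroup.mem_centralizer_iff.2 fun q hq => ?_
      set a : (S : Subgroup G) := α⁻¹ wS with ha
      set c : (S : Subgroup G) := α⁻¹ nS with hc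
      have h1 : ⁅(a : G), q⁆ ∈ Subgroup.center G := by
        rw [← commutatorElement_inv]
        exact inv_mem (h.hyp.central (h.hyp.comm_Q_Y
          (Subgroup.commutator_mem_commutator hq (h.T_le_Y hw'))))
      have h2 : ⁅(a : G), q⁆ ∈ Rc S := by
        have e : (a : G) = (v : G) * ((c⁻¹ : (S : Subgroup G)) : G) := by
          rw [hv', Subgroup.coe_mul, Subgroup.coe_inv, mul_inv_cancel_right]
        rw [e, comm_mul_left, commutatorElement_eq_one_iff_commute.2 (b.commute_Q hq hv).symm, mul_one]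
        refine conj_mem_of_norm (b.S_normalizes_R v.2) ?_
        rw [Subgroup.coe_inv, show ⁅(c : G)⁻¹, q⁆ = (c : G)⁻¹ * ⁅(c : G), q⁆⁻¹ * (c : G)⁻¹⁻¹ by
          simp only [commutatorElement_def]; group]
        exact conj_mem_of_norm (inv_mem (b.S_normalizes_R c.2))
          (inv_mem (hn1 ⟨q, pCore_le S hq⟩))
      have h3 : ⁅(a : G), q⁆ ∈ Rc S ⊓ Subgroup.center G := ⟨h2, h1⟩
      rw [b.R_inf_center hp2, Subgroup.mem_bot, commutatorElement_eq_one_iff_mul_comm] at h3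
      exact h3.symm
    have hwV := h.not_full_fix hp2 _ hw' hwC
    have hnV : ((α⁻¹ nS : (S : Subgroup G)) : G) ∈ Vc S := by
      rw [show α⁻¹ nS = (α⁻¹ wS)⁻¹ * v by rw [hv', inv_mul_cancel_left]]
      exact mul_mem (inv_mem hwV) hv
    have hnU : n ∈ act α (Vc S) := by
      have h1 := mem_act_of_mem α hnV
      rwa [← MulAut.mul_apply, mul_inv_cancel, MulAut.one_apply] at h1
    rw [show u = w * n by rw [hn', mul_inv_cancel_left]]
    exact mul_mem hw (h.Z_le_T (h.fixed_U hnU hn.2))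
  refine b.R_not_le_center ?_
  have hVT : Vc S ≤ Tc S α := by
    have h1 := act_mono α⁻¹ hUT
    rwa [act_inv_act α b.V_le_S, h.act_T'] at h1
  rw [Rc, Subgroup.commutator_comm]
  exact Subgroup.commutator_le.2 fun s hs v hv => hTC (hVT hv) s hs

/-! ### The trilinear form -/

theorem value_mem {e t : G} (he : e ∈ Ec S α) (ht : t ∈ (S : Subgroup G)) : ⁅t, e⁆ ∈ Zc S :=
  h.hyp.comm_E_S_Z (by
    rw [Subgroup.commutator_comm]
    exact Subgroup.commutator_mem_commutator ht he)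

theorem comm_mem_E {y s : G} (hy : y ∈ Yc S α) (hs : s ∈ (S : Subgroup G)) : ⁅s, y⁆ ∈ Ec S α :=
  h.hyp.comm_Y_S (by
    rw [Subgroup.commutator_comm]
    exact Subgroup.commutator_mem_commutator hs hy)

theorem commute_center {r x : G} (hr : r ∈ act α (Rc S)) : Commute r x :=
  (Subgroup.mem_center_iff.1 (h.hyp.central hr) x).symm

/-- The additivity in the module. -/
theorem g_add {t e e' : G} (ht : t ∈ (S : Subgroup G)) (he : e ∈ Ec S α) (he' : e' ∈ Ec S α) :
    ψV ⁅t, e * e'⁆ = ψV ⁅t, e⁆ + ψV ⁅t, e'⁆ := by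
  have b := h.hyp.base
  have h2 := h.value_mem he' ht
  rw [comm_mul_right, show e * ⁅t, e'⁆ * e⁻¹ = ⁅t, e'⁆ by
      rw [← (b.Z_commute h2 (h.hyp.E_le_S he)).eq, mul_inv_cancel_right],
    b.nat.add _ (b.Z_le_V (h.value_mem he ht)) _ (b.Z_le_V h2)]

theorem g_left {t t' e : G} (ht : t ∈ (S : Subgroup G)) (ht' : t' ∈ (S : Subgroup G)) (he : e ∈ Ec S α) :
    ψV ⁅t * t', e⁆ = ψV ⁅t, e⁆ + ψV ⁅t', e⁆ := by
  have b := h.hyp.base
  have h2 := h.value_mem he ht'
  rw [comm_mul_left, ← (b.Z_commute h2 ht).eq, mul_inv_cancel_right,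
    b.nat.add _ (b.Z_le_V h2) _ (b.Z_le_V (h.value_mem he ht)), add_comm]

theorem g_zero {t e : G} (hc : ⁅t, e⁆ ∈ Subgroup.center G) (he : e ∈ Ec S α)
    (ht : t ∈ (S : Subgroup G)) : ψV ⁅t, e⁆ = 0 :=
  (h.hyp.base.zero_iff (h.hyp.base.Z_le_V (h.value_mem he ht))).2 hc

theorem g_central {t e : G} (ht : t ∈ (S : Subgroup G)) (he : e ∈ Zc S) : ψV ⁅t, e⁆ = 0 := by
  rw [commutatorElement_eq_one_iff_commute.2 (h.hyp.base.Z_commute he ht).symm, h.hyp.base.nat.map_one]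

theorem form_add {y y' s t : G} (hy : y ∈ Yc S α) (hy' : y' ∈ Yc S α) (hs : s ∈ (S : Subgroup G))
    (ht : t ∈ (S : Subgroup G)) : form ψV (y * y') s t = form ψV y s t + form ψV y' s t := by
  have he' := h.comm_mem_E hy' hs
  have hr := h.hyp.comm_Y_Y (Subgroup.commutator_mem_commutator hy (h.hyp.E_le_Y he'))
  have hrZ := h.hyp.R_le_Z hr
  have hrE : ⁅y, ⁅s, y'⁆⁆ ∈ Ec S α := h.T_le_E (h.Z_le_T hrZ)
  rw [form, form, form, comm_mul_right s,
    show y * ⁅s, y'⁆ * y⁻¹ = ⁅y, ⁅s, y'⁆⁆ * ⁅s, y'⁆ by simp only [commutatorElement_def]; group,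
    h.g_add ht (h.comm_mem_E hy hs) (mul_mem hrE he'), h.g_add ht hrE he', h.g_central ht hrZ, zero_add]
  rfl

theorem form_left {y s s' t : G} (hy : y ∈ Yc S α) (hs : s ∈ (S : Subgroup G))
    (hs' : s' ∈ (S : Subgroup G)) (ht : t ∈ (S : Subgroup G)) :
    form ψV y (s * s') t = form ψV y s t + form ψV y s' t := by
  have he' := h.comm_mem_E hy hs'
  have hz := h.value_mem he' hs
  have hzE : ⁅s, ⁅s', y⁆⁆ ∈ Ec S α := h.T_le_E (h.Z_le_T hz)
  rw [form, form, form, comm_mul_left s s',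
    show s * ⁅s', y⁆ * s⁻¹ = ⁅s, ⁅s', y⁆⁆ * ⁅s', y⁆ by simp only [commutatorElement_def]; group,
    h.g_add ht (mul_mem hzE he') (h.comm_mem_E hy hs), h.g_add ht hzE he', h.g_central ht hz, zero_add,
    Pi.add_apply, add_comm]

theorem form_right {y s t t' : G} (hy : y ∈ Yc S α) (hs : s ∈ (S : Subgroup G))
    (ht : t ∈ (S : Subgroup G)) (ht' : t' ∈ (S : Subgroup G)) :
    form ψV y s (t * t') = form ψV y s t + form ψV y s t' := by
  rw [form, form, form, h.g_left ht ht' (h.comm_mem_E hy hs)]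
  rfl

theorem form_E {y s t : G} (hy : y ∈ Ec S α) (hs : s ∈ (S : Subgroup G)) (ht : t ∈ (S : Subgroup G)) :
    form ψV y s t = 0 := by
  rw [form, h.g_central ht (h.value_mem hy hs)]
  rfl

theorem form_Q_left {y q t : G} (hy : y ∈ Yc S α) (hq : q ∈ Cfsg.pCore p G) (ht : t ∈ (S : Subgroup G)) :
    form ψV y q t = 0 := by
  rw [form, h.g_central ht (h.hyp.R_le_Z (h.hyp.comm_Q_Y (Subgroup.commutator_mem_commutator hq hy)))]
  rfl

theorem form_Q_right {y s q : G} (hy : y ∈ Yc S α) (hs : s ∈ (S : Subgroup G))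
    (hq : q ∈ Cfsg.pCore p G) : form ψV y s q = 0 := by
  have he := h.comm_mem_E hy hs
  rw [form, h.g_zero (h.hyp.central (h.hyp.comm_Q_Y
    (Subgroup.commutator_mem_commutator hq (h.hyp.E_le_Y he)))) he (pCore_le S hq)]
  rfl

theorem form_congr {y y' s s' t t' : G} (hy : y ∈ Yc S α) (hy' : y' ∈ Yc S α)
    (ey : ψY y 1 = ψY y' 1) (hs : s ∈ (S : Subgroup G)) (es : s'⁻¹ * s ∈ Cfsg.pCore p G)
    (hs' : s' ∈ (S : Subgroup G)) (ht : t ∈ (S : Subgroup G)) (et : t'⁻¹ * t ∈ Cfsg.pCore p G)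
    (ht' : t' ∈ (S : Subgroup G)) : form ψV y s t = form ψV y' s' t' := by
  have hd : y'⁻¹ * y ∈ Ec S α := h.mem_E (mul_mem (inv_mem hy') hy) (by
    rw [h.nat.add _ (inv_mem hy') _ hy, h.nat.map_inv hy', Pi.add_apply, Pi.neg_apply, ey, neg_add_cancel])
  have e1 : form ψV y s t = form ψV y' s t := by
    conv_lhs => rw [show y = y' * (y'⁻¹ * y) by group]
    rw [h.form_add hy' (h.hyp.E_le_Y hd) hs ht, h.form_E hd hs ht, add_zero]
  have e2 : form ψV y' s t = form ψV y' s' t := by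
    conv_lhs => rw [show s = s' * (s'⁻¹ * s) by group]
    rw [h.form_left hy' hs' (pCore_le S es) ht, h.form_Q_left hy' es ht, add_zero]
  have e3 : form ψV y' s' t = form ψV y' s' t' := by
    conv_lhs => rw [show t = t' * (t'⁻¹ * t) by group]
    rw [h.form_right hy' hs' ht' (pCore_le S et), h.form_Q_right hy' hs' et, add_zero]
  rw [e1, e2, e3]

theorem form_one_left {y t : G} (hy : y ∈ Yc S α) (ht : t ∈ (S : Subgroup G)) : form ψV y 1 t = 0 :=
  h.form_Q_left hy (one_mem _) ht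

theorem form_one_right {y s : G} (hy : y ∈ Yc S α) (hs : s ∈ (S : Subgroup G)) : form ψV y s 1 = 0 :=
  h.form_Q_right hy hs (one_mem _)

theorem form_pow {y s t : G} (hy : y ∈ Yc S α) (hs : s ∈ (S : Subgroup G)) (ht : t ∈ (S : Subgroup G))
    (i j k : ℕ) : form ψV (y ^ i) (s ^ j) (t ^ k) = (i * j * k : F) * form ψV y s t := by
  have e1 : ∀ (j : ℕ) {y t : G}, y ∈ Yc S α → t ∈ (S : Subgroup G) →
      form ψV y (s ^ j) t = (j : F) * form ψV y s t := by
    intro j y t hy ht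
    induction j with
    | zero => rw [pow_zero, h.form_one_left hy ht, Nat.cast_zero, zero_mul]
    | succ j ih => rw [pow_succ, h.form_left hy (pow_mem hs j) hs ht, ih]; push_cast; ring
  have e2 : ∀ (k : ℕ) {y : G}, y ∈ Yc S α → form ψV y s (t ^ k) = (k : F) * form ψV y s t := by
    intro k y hy
    induction k with
    | zero => rw [pow_zero, h.form_one_right hy hs, Nat.cast_zero, zero_mul]
    | succ k ih => rw [pow_succ, h.form_right hy hs (pow_mem ht k) ht, ih]; push_cast; ring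
  have e3 : ∀ i : ℕ, form ψV (y ^ i) s t = (i : F) * form ψV y s t := by
    intro i
    induction i with
    | zero => rw [pow_zero, h.form_E (one_mem _) hs ht, Nat.cast_zero, zero_mul]
    | succ i ih => rw [pow_succ, h.form_add (pow_mem hy i) hy hs ht, ih]; push_cast; ring
  rw [e1 j (pow_mem hy i) (pow_mem ht k), e2 k (pow_mem hy i), e3 i]
  ring

theorem form_conj {g y s t : G} (hg : g ∈ M) (hy : y ∈ Yc S α) (hs : s ∈ (S : Subgroup G))
    (ht : t ∈ (S : Subgroup G)) :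
    form ψV (g * y * g⁻¹) (g * s * g⁻¹) (g * t * g⁻¹) =
      (ρV g : Matrix (Fin 2) (Fin 2) F) 0 0 * form ψV y s t := by
  have b := h.hyp.base
  have hz := h.value_mem (h.comm_mem_E hy hs) ht
  have h1 : ψV ⁅t, ⁅s, y⁆⁆ 1 = 0 := (b.line_iff (b.Z_le_V hz)).2 hz
  have h2 : (ρV g : Matrix (Fin 2) (Fin 2) F) 1 0 = 0 := (b.nat.borel g).1 hg
  rw [form, form, ← comm_conj, ← comm_conj, b.nat.equiv g _ (b.Z_le_V hz), mulVec_apply, h1]
  ring

theorem form_symm {y s t : G} (hy : y ∈ Yc S α) (hs : s ∈ (S : Subgroup G)) (ht : t ∈ (S : Subgroup G)) :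
    form ψV y s t = form ψV y t s := by
  have b := h.hyp.base
  set e := ⁅s, y⁆ with he
  set e' := ⁅t, y⁆ with he'
  set q := ⁅s, t⁆ with hq
  have heE := h.comm_mem_E hy hs
  have heE' := h.comm_mem_E hy ht
  have hqQ : q ∈ Cfsg.pCore p G := commutator_le_pCore b.st (Subgroup.commutator_mem_commutator hs ht)
  have hzy := h.hyp.comm_Q_Y (Subgroup.commutator_mem_commutator hqQ hy)
  have hree := h.hyp.comm_Y_Y (Subgroup.commutator_mem_commutator (h.hyp.E_le_Y heE) (h.hyp.E_le_Y heE'))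
  set X := ⁅t * s, y⁆ with hX
  have hqX : ⁅q, X⁆ ∈ act α (Rc S) :=
    h.hyp.comm_Q_Y (Subgroup.commutator_mem_commutator hqQ
      (h.hyp.E_le_Y (h.comm_mem_E hy (mul_mem ht hs))))
  set za := ⁅s, e'⁆ with hza
  set zb := ⁅t, e⁆ with hzb
  have hza' : za ∈ Zc S := h.value_mem heE' hs
  have hzb' : zb ∈ Zc S := h.value_mem heE ht
  have hX' : X = zb * (e * e') := by
    rw [hX, comm_mul_left, hzb, he, he', commutatorElement_def t ⁅s, y⁆]
    group
  have h1 : ⁅s * t, y⁆ = za * (e' * e) := by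
    rw [comm_mul_left, hza, he, he', commutatorElement_def s ⁅t, y⁆]
    group
  have h2 : ⁅s * t, y⁆ = (⁅q, X⁆ * X) * ⁅q, y⁆ := by
    rw [show s * t = q * (t * s) by rw [hq, commutatorElement_def]; group, comm_mul_left, ← hX]
    congr 1
    simp only [commutatorElement_def]
    group
  have h3 : za = ⁅q, X⁆ * ⁅q, y⁆ * ⁅e, e'⁆ * zb :=
    symm_aux (h1.symm.trans h2) hX' (h.commute_center hzy) (h.commute_center hree)
  have hrV : ∀ r ∈ act α (Rc S), r ∈ Vc S ∧ ψV r = 0 := fun r hr =>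
    ⟨h.hyp.R_le_V hr, (b.zero_iff (h.hyp.R_le_V hr)).2 (h.hyp.central hr)⟩
  show ψV zb 0 = ψV za 0
  rw [h3, b.nat.add _ (mul_mem (mul_mem (hrV _ hqX).1 (hrV _ hzy).1) (hrV _ hree).1) _ (b.Z_le_V hzb'),
    b.nat.add _ (mul_mem (hrV _ hqX).1 (hrV _ hzy).1) _ (hrV _ hree).1,
    b.nat.add _ (hrV _ hqX).1 _ (hrV _ hzy).1, (hrV _ hqX).2, (hrV _ hzy).2, (hrV _ hree).2]
  simp

theorem exists_form_ne (hp2 : p ≠ 2) : ∃ y ∈ Yc S α, ∃ s ∈ (S : Subgroup G), ∃ t ∈ (S : Subgroup G),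
    form ψV y s t ≠ 0 := by
  obtain ⟨y, hy, s, hs, t, ht, hne⟩ := h.not_quadratic hp2
  refine ⟨y, hy, s, hs, t, ht, fun h0 => hne ?_⟩
  have hz := h.value_mem (h.comm_mem_E hy hs) ht
  refine (h.hyp.base.zero_iff (h.hyp.base.Z_le_V hz)).1 (funext fun i => ?_)
  fin_cases i
  · exact h0
  · exact (h.hyp.base.line_iff (h.hyp.base.Z_le_V hz)).2 hz

theorem kerV_inv {r s : G} (hs : s ∈ (S : Subgroup G)) (hV : ρV r = 1 ∨ ρV r = -1)
    (hY : ρY r = 1 ∨ ρY r = -1) : s⁻¹ * (r * s * r⁻¹) ∈ Cfsg.pCore p G ∧ r * s * r⁻¹ ∈ (S : Subgroup G) := by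
  have hq : s⁻¹ * (r * s * r⁻¹) ∈ Cfsg.pCore p G := by
    refine h.ker_inf_le ?_ ?_
    · rw [map_mul, map_mul, map_mul, map_inv, map_inv]
      rcases hV with e | e <;> rw [e]
      · simp
      · rw [(Commute.neg_one_left (ρV s)).eq, mul_assoc, mul_inv_cancel, mul_one, inv_mul_cancel]
    · rw [map_mul, map_mul, map_mul, map_inv, map_inv]
      rcases hY with e | e <;> rw [e]
      · simp
      · rw [(Commute.neg_one_left (ρY s)).eq, mul_assoc, mul_inv_cancel, mul_one, inv_mul_cancel]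
  refine ⟨hq, ?_⟩
  rw [show r * s * r⁻¹ = s * (s⁻¹ * (r * s * r⁻¹)) by group]
  exact mul_mem hs (pCore_le S hq)

theorem kernels (hp2 : p ≠ 2) : (∀ g, ρV g = 1 ↔ g ∈ Cfsg.pCore p G) ∧
    (∀ g, ρY g = 1 ↔ g ∈ Cfsg.pCore p G) := by
  have b := h.hyp.base
  obtain ⟨y, hy, s, hs, t, ht, hne⟩ := h.exists_form_ne hp2
  have h20 := two_ne_zero_of_ne_two (F := F) hp2
  have hkerV : ρV.ker ≤ M := fun g hg => by rw [b.nat.borel, MonoidHom.mem_ker.1 hg]; simp
  have hkerY : ρY.ker ≤ M := fun g hg => by rw [h.nat.borel, MonoidHom.mem_ker.1 hg]; simp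
  have main : ∀ r : G, ρV r = 1 → ρY r = -1 → False := by
    intro r hrV hrY
    have hrM : r ∈ M := hkerV hrV
    obtain ⟨es, hrs⟩ := h.kerV_inv hs (Or.inl hrV) (Or.inr hrY)
    obtain ⟨et, hrt⟩ := h.kerV_inv ht (Or.inl hrV) (Or.inr hrY)
    have e1 := h.form_conj hrM hy hs ht
    rw [hrV, h.form_congr ((Yc_normal S α).conj_mem y hy r) (inv_mem hy) ?_ hrs es hs hrt et ht] at e1
    · have e2 := h.form_add hy (inv_mem hy) hs ht
      rw [mul_inv_cancel, h.form_E (one_mem _) hs ht, e1] at e2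
      simp at e2
      have e3 : (2 : F) * form ψV y s t = 0 := by rw [two_mul, ← e2]
      exact hne ((mul_eq_zero.1 e3).resolve_left h20)
    · rw [h.nat.equiv r y hy, hrY, neg_one_mulVec, h.nat.map_inv hy]
  have main' : ∀ r : G, ρY r = 1 → ρV r = -1 → False := by
    intro r hrY hrV
    have hrM : r ∈ M := hkerY hrY
    obtain ⟨es, hrs⟩ := h.kerV_inv hs (Or.inr hrV) (Or.inl hrY)
    obtain ⟨et, hrt⟩ := h.kerV_inv ht (Or.inr hrV) (Or.inl hrY)
    have e1 := h.form_conj hrM hy hs ht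
    rw [hrV, h.form_congr ((Yc_normal S α).conj_mem y hy r) hy ?_ hrs es hs hrt et ht] at e1
    · simp at e1
      have e3 : (2 : F) * form ψV y s t = 0 := by linear_combination e1
      exact hne ((mul_eq_zero.1 e3).resolve_left h20)
    · rw [h.nat.equiv r y hy, hrY]
      simp
  refine ⟨fun g => ⟨fun hg => ?_, fun hg => (b.nat.inf g (pCore_le S hg)).2 hg⟩,
    fun g => ⟨fun hg => ?_, fun hg => (h.nat.inf g (pCore_le S hg)).2 hg⟩⟩
  · rcases h.nat.scalar (MonoidHom.normal_ker ρV) hkerV (MonoidHom.mem_ker.2 hg) with e | e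
    · exact h.ker_inf_le hg e
    · exact (main g hg e).elim
  · rcases b.nat.scalar (MonoidHom.normal_ker ρY) hkerY (MonoidHom.mem_ker.2 hg) with e | e
    · exact h.ker_inf_le e hg
    · exact (main' g hg e).elim

theorem eq_three (hp2 : p ≠ 2) : p = 3 := by
  have b := h.hyp.base
  obtain ⟨hkV, hkY⟩ := h.kernels hp2
  obtain ⟨y, hy, s, hs, t, ht, hne⟩ := h.exists_form_ne hp2
  have h20 := two_ne_zero_of_ne_two (F := F) hp2
  set k := (p + 1) / 2 with hk
  have hk2 : (k : F) * 2 = 1 := by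
    have hodd : p % 2 = 1 := Nat.odd_iff.1 (hp.out.odd_of_ne_two hp2)
    have e : k * 2 = p + 1 := by omega
    calc (k : F) * 2 = ((k * 2 : ℕ) : F) := by push_cast; ring
      _ = ((p + 1 : ℕ) : F) := by rw [e]
      _ = 1 := by push_cast; rw [CharP.cast_eq_zero, zero_add]
  obtain ⟨s₁, hs₁, hX⟩ := b.nat.upper_onto 1
  obtain ⟨c, hcX⟩ := h.nat.upper s₁ hs₁
  obtain ⟨g, hg⟩ := b.nat.surj wm
  have hgM : g ∉ M := by rw [b.nat.borel, hg, wm_coe]; simp
  set z := g⁻¹ * s₁ * g with hz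
  set d := s₁ ^ 2 * z ^ k * s₁ ^ 2 * (s₁ * z * s₁)⁻¹ with hd
  clear_value d
  clear_value z
  have hupow : ∀ (a : F) (i : ℕ), upperHom (Multiplicative.ofAdd a) ^ i =
      upperHom (Multiplicative.ofAdd ((i : F) * a)) := fun a i => by
    rw [← map_pow, ← ofAdd_nsmul, nsmul_eq_mul]
  have hzpow : ∀ (ρ : G →* SL(2, F)) (a : F) (i : ℕ), ρ s₁ = upperHom (Multiplicative.ofAdd a) →
      ρ (z ^ i) = (ρ g)⁻¹ * upperHom (Multiplicative.ofAdd ((i : F) * a)) * ρ g := by
    intro ρ a i e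
    rw [hz, show (g⁻¹ * s₁ * g) ^ i = g⁻¹ * s₁ ^ i * g by
      rw [show g⁻¹ * s₁ * g = g⁻¹ * s₁ * g⁻¹⁻¹ by group, conj_pow, inv_inv],
      map_mul, map_mul, map_inv, map_pow, e, hupow]
  have hdV : (ρV d : Matrix (Fin 2) (Fin 2) F) 1 0 = 0 ∧
      (ρV d : Matrix (Fin 2) (Fin 2) F) 0 0 = 2 ∧ (ρV d : Matrix (Fin 2) (Fin 2) F) 1 1 = k := by
    have e : d * (s₁ * z * s₁) = s₁ ^ 2 * z ^ k * s₁ ^ 2 := by rw [hd, inv_mul_cancel_right]
    have e' := congrArg (fun x => (ρV x : Matrix (Fin 2) (Fin 2) F)) e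
    have hW : (ρV (s₁ * z * s₁) : Matrix (Fin 2) (Fin 2) F) = !![0, 1; -1, 0] := by
      rw [map_mul, map_mul, show ρV z = ρV (z ^ 1) by rw [pow_one], hzpow ρV 1 1 hX, hg, hX]
      simp only [Matrix.SpecialLinearGroup.coe_mul, Matrix.SpecialLinearGroup.coe_inv, wm_coe, upperHom_coe,
        Matrix.adjugate_fin_two, toAdd_ofAdd]
      ext i j
      fin_cases i <;> fin_cases j <;> simp [Matrix.mul_apply, Fin.sum_univ_two]
    simp only [map_mul ρV d, Matrix.SpecialLinearGroup.coe_mul, hW] at e'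
    rw [map_mul, map_mul, map_pow, hzpow ρV 1 k hX, hX, hupow, hg] at e'
    simp only [Matrix.SpecialLinearGroup.coe_mul, Matrix.SpecialLinearGroup.coe_inv, wm_coe, upperHom_coe,
      Matrix.adjugate_fin_two, toAdd_ofAdd] at e'
    have e00 := congrFun (congrFun e' 0) 0
    have e01 := congrFun (congrFun e' 0) 1
    have e10 := congrFun (congrFun e' 1) 0
    have e11 := congrFun (congrFun e' 1) 1
    simp [Matrix.mul_apply, Fin.sum_univ_two] at e00 e01 e10 e11
    refine ⟨by linear_combination e11 - hk2, ?_, e10⟩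
    linear_combination e01 - 2 * hk2
  have hdM : d ∈ M := (b.nat.borel d).2 hdV.1
  have hdY : (ρY d : Matrix (Fin 2) (Fin 2) F) 1 0 = 0 ∧ (ρY d : Matrix (Fin 2) (Fin 2) F) 1 1 = k := by
    have h10 := (h.nat.borel d).1 hdM
    refine ⟨h10, ?_⟩
    have hg10 : (ρY g : Matrix (Fin 2) (Fin 2) F) 1 0 ≠ 0 := fun e => hgM ((h.nat.borel g).2 e)
    have hc0 : c ≠ 0 := fun e => by
      have h1 : s₁ ∈ Cfsg.pCore p G := (hkY s₁).1 (by rw [hcX, e]; exact map_one _)
      have h2 := (hkV s₁).2 h1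
      rw [hX] at h2
      simpa [upperHom_coe] using congrArg (fun m : SL(2, F) => (m : Matrix (Fin 2) (Fin 2) F) 0 1) h2
    have e : d * (s₁ * z * s₁) = s₁ ^ 2 * z ^ k * s₁ ^ 2 := by rw [hd, inv_mul_cancel_right]
    have e' := congrArg (fun x => (ρY x : Matrix (Fin 2) (Fin 2) F)) e
    rw [show z = z ^ 1 by rw [pow_one]] at e'
    simp only [map_mul ρY, hzpow ρY c _ hcX, hcX, map_pow ρY s₁, hupow, Matrix.SpecialLinearGroup.coe_mul,
      Matrix.SpecialLinearGroup.coe_inv, upperHom_coe, toAdd_ofAdd, ← pow_mul, one_mul] at e'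
    have e10 := congrFun (congrFun e' 1) 0
    simp [Matrix.mul_apply, Matrix.vecMul, dotProduct, Fin.sum_univ_two, h10, Matrix.adjugate_fin_two] at e10
    have hne' : c * ((ρY g : Matrix (Fin 2) (Fin 2) F) 1 0) ^ 2 ≠ 0 :=
      mul_ne_zero hc0 (pow_ne_zero _ hg10)
    have e11 : ((ρY d : Matrix (Fin 2) (Fin 2) F) 1 1 - k) *
        (c * ((ρY g : Matrix (Fin 2) (Fin 2) F) 1 0) ^ 2) = 0 := by linear_combination -e10
    exact sub_eq_zero.1 ((mul_eq_zero.1 e11).resolve_right hne')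
  have hconjS : ∀ x ∈ (S : Subgroup G), d * x * d⁻¹ ∈ (S : Subgroup G) ∧
      (x ^ 4)⁻¹ * (d * x * d⁻¹) ∈ Cfsg.pCore p G := by
    intro x hx
    obtain ⟨a, ha⟩ := b.nat.upper x hx
    have hq : (x ^ 4)⁻¹ * (d * x * d⁻¹) ∈ Cfsg.pCore p G := by
      refine (hkV _).1 ?_
      rw [map_mul, map_inv, inv_mul_eq_one, map_mul, map_mul, map_inv, map_pow, ha, hupow,
        eq_mul_inv_iff_mul_eq]
      refine Subtype.ext ?_
      simp only [Matrix.SpecialLinearGroup.coe_mul, upperHom_coe, toAdd_ofAdd]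
      rw [Matrix.eta_fin_two (ρV d : Matrix (Fin 2) (Fin 2) F)]
      obtain ⟨d10, d00, d11⟩ := hdV
      ext i j
      fin_cases i <;> fin_cases j <;> simp [d10, d00, d11] <;> linear_combination (2 * a) * hk2
    refine ⟨?_, hq⟩
    rw [show d * x * d⁻¹ = x ^ 4 * ((x ^ 4)⁻¹ * (d * x * d⁻¹)) by group]
    exact mul_mem (pow_mem hx 4) (pCore_le S hq)
  have hyk : ψY (y ^ k) = fun i => (k : F) * ψY y i := by
    generalize k = n
    induction n with
    | zero => rw [pow_zero, h.nat.map_one]; funext i; simp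
    | succ n ih =>
      rw [pow_succ, h.nat.add _ (pow_mem hy n) _ hy, ih]
      funext i
      simp only [Pi.add_apply]
      push_cast
      ring
  have e1 := h.form_conj hdM hy hs ht
  rw [h.form_congr ((Yc_normal S α).conj_mem y hy d) (pow_mem hy k) ?_ (hconjS s hs).1 (hconjS s hs).2
    (pow_mem hs 4) (hconjS t ht).1 (hconjS t ht).2 (pow_mem ht 4), h.form_pow hy hs ht, hdV.2.1] at e1
  · have e2 : (12 : F) * form ψV y s t = 0 := by
      push_cast at e1
      linear_combination 2 * e1 - (16 * form ψV y s t) * hk2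
    have e3 : ((12 : ℕ) : F) = 0 := by exact_mod_cast (mul_eq_zero.1 e2).resolve_right hne
    rw [CharP.cast_eq_zero_iff F p] at e3
    rcases (Nat.Prime.dvd_mul hp.out).1 (show p ∣ 4 * 3 from e3) with e | e
    · exact absurd ((Nat.prime_dvd_prime_iff_eq hp.out Nat.prime_two).1
        (hp.out.dvd_of_dvd_pow (show p ∣ 2 ^ 2 from e))) hp2
    · exact (Nat.prime_dvd_prime_iff_eq hp.out Nat.prime_three).1 e
  · rw [h.nat.equiv d y hy, mulVec_apply, hdY.1, hdY.2, hyk]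
    ring

end Two

end CfsgLib.PushRankOne
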