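import Cfsg.Agent.Lib.PushRankOne.Base
import Cfsg.Agent.Lib.CD.Offender
import Cfsg.Prelude.Def_BaumannBlocks

/-!
Pushing up and minimal centrally large subgroups.
-/

set_option autoImplicit false
set_option linter.unusedSectionVars false
set_option linter.style.haveILetI false

namespace CfsgLib.PushRankOne

open CfsgLib.SL2 CfsgLib.SL2Module CfsgLib.SL2Module.Baumann
open CfsgLib.CD.Offender (Act phi)
open scoped MatrixGroups commutatorElement

variable {G : Type*} [Group G] [Finite G] {p : ℕ} [hp : Fact p.Prime]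
variable {F : Type} [Field F] [Fintype F] [CharP F p]
variable {S : Sylow p G} {M : Subgroup G} {π : G →* Matrix.ProjectiveSpecialLinearGroup (Fin 2) F}

/-- The index of the core in a subgroup of the Sylow subgroup. -/
theorem card_le_inf_core (st : Setting S M π) (R : Subgroup (S : Subgroup G)) :
    Nat.card R ≤ Nat.card F * Nat.card ↥(R ⊓ (Cfsg.pCore p G).subgroupOf (S : Subgroup G)) := by
  set Q₀ := (Cfsg.pCore p G).subgroupOf (S : Subgroup G)
  have h1 := CD.card_mul_le R Q₀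
  have h2 : Nat.card ↥(R ⊔ Q₀) ≤ Nat.card F * Nat.card Q₀ := by
    refine (Subgroup.card_le_card_group _).trans ?_
    rw [card_S st, Nat.card_congr (Subgroup.subgroupOfEquivOfLe (pCore_le S)).toEquiv]
  refine Nat.le_of_mul_le_mul_right (?_ : _ * Nat.card Q₀ ≤ _ * Nat.card Q₀) Nat.card_pos
  calc Nat.card R * Nat.card Q₀ ≤ Nat.card ↥(R ⊔ Q₀) * Nat.card ↥(R ⊓ Q₀) := h1
    _ ≤ Nat.card F * Nat.card Q₀ * Nat.card ↥(R ⊓ Q₀) := Nat.mul_le_mul_right _ h2
    _ = _ := by ring

/-- Elements of a normal closure of central elements acting trivially. -/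
theorem central_of_comm (st : Setting S M π) {z : G}
    (hz : z ∈ Subgroup.centralizer ((S : Subgroup G) : Set G))
    (h : ∀ g : G, ⁅g, z⁆ ∈ Subgroup.center G) : z ∈ Subgroup.center G := by
  let f : G →* Subgroup.center G := MonoidHom.mk' (fun g => ⟨⁅g, z⁆, h g⟩) fun a c => Subtype.ext (by
    show ⁅a * c, z⁆ = ⁅a, z⁆ * ⁅c, z⁆
    rw [comm_mul_left, Subgroup.mem_center_iff.1 (h c) a, mul_inv_cancel_right,
      Subgroup.mem_center_iff.1 (h c) ⁅a, z⁆])
  have hle : (⊤ : Subgroup G) ≤ f.ker := by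
    rw [← normalClosure_S st]
    exact Subgroup.normalClosure_le_normal fun s hs => Subtype.ext
      (show ⁅s, z⁆ = 1 from commutatorElement_eq_one_iff_mul_comm.2
        (Subgroup.mem_centralizer_iff.1 hz s hs))
  refine Subgroup.mem_center_iff.2 fun g => ?_
  exact commutatorElement_eq_one_iff_mul_comm.1 (congrArg Subtype.val (hle (Subgroup.mem_top g)))

/-- A normal subgroup centralising the Sylow subgroup is central. -/
theorem le_center_of_normal (st : Setting S M π) {W : Subgroup G} [W.Normal]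
    (h : W ≤ Subgroup.centralizer ((S : Subgroup G) : Set G)) : W ≤ Subgroup.center G := by
  haveI : (Subgroup.centralizer (W : Set G)).Normal := Subgroup.normal_centralizer
  have hle : (⊤ : Subgroup G) ≤ Subgroup.centralizer (W : Set G) := by
    rw [← normalClosure_S st]
    exact Subgroup.normalClosure_le_normal (Subgroup.le_centralizer_iff.1 h)
  exact fun w hw => Subgroup.mem_center_iff.2 fun g =>
    (Subgroup.mem_centralizer_iff.1 (hle (Subgroup.mem_top g)) w hw).symm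

theorem zj_eq_Zc (hJ : (S : Subgroup G) ≤
    Subgroup.centralizer (Cfsg.centerThompsonAOf (S : Subgroup G) : Set G)) :
    Cfsg.centerThompsonAOf (S : Subgroup G) = Zc S :=
  le_antisymm (le_inf zj_le (Subgroup.le_centralizer_iff.1 hJ))
    fun z hz => mem_zj hz.1 fun A hA a ha =>
      (Subgroup.mem_centralizer_iff.1 hz.2 a (hA.1 ha)).symm

/-- A subgroup of the centre of the Sylow subgroup which is not normal gives an exact offender. -/
theorem exists_act (st : Setting S M π)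
    (hJ : (S : Subgroup G) ≤ Subgroup.centralizer (Cfsg.centerThompsonAOf (S : Subgroup G) : Set G))
    {Z₀ : Subgroup G} (hZ₀ : Z₀ ≤ Zc S) (hn : ¬ Z₀.Normal) :
    ∃ W₁ : Subgroup G, W₁ ≤ Subgroup.normalClosure (Z₀ : Set G) ∧ (∀ w ∈ W₁, w ^ p = 1) ∧
      Act ((Cfsg.pCore p G).subgroupOf (S : Subgroup G))
        ((Subgroup.normalClosure (Z₀ : Set G)).subgroupOf (S : Subgroup G)) (Nat.card F) ∧
      Nat.card F * Nat.card ↥(W₁.subgroupOf (S : Subgroup G) ⊓
        Subgroup.center (S : Subgroup G)) ≤ Nat.card (W₁.subgroupOf (S : Subgroup G)) := by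
  classical
  haveI hQn : (Cfsg.pCore p G).Normal := Fitting.pCore_normal p
  set W := Subgroup.normalClosure (Z₀ : Set G) with hW
  haveI hWn : W.Normal := Subgroup.normalClosure_normal
  set Q := Cfsg.pCore p G with hQdef
  set V := Vc S with hV
  set CS := Subgroup.centralizer ((S : Subgroup G) : Set G) with hCS
  have hZn : ¬ (Zc S).Normal := by
    intro h
    haveI := h
    have hc := le_center_of_normal st (W := Zc S) inf_le_right
    exact hn (normal_of_le_center (hZ₀.trans hc))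
  have hVM : Subgroup.centralizer (V : Set G) ≤ M := by
    by_contra h
    exact hZn (normal_of_fixed st h inf_le_right
      (Subgroup.centralizer_le Subgroup.subset_normalClosure))
  obtain ⟨A₀, hA₀, hA₀Q⟩ : ∃ A, MaxAb (S : Subgroup G) A ∧ ¬ A ≤ Q := by
    by_contra hall
    push Not at hall
    exact hZn (zj_eq_Zc hJ ▸ zj_normal_of_le S hall)
  obtain ⟨⟨hpc, -, -⟩, hquad, hcard⟩ := structure_full st hA₀ hA₀Q hVM
  have hVQ : V ≤ Q := Subgroup.normalClosure_le_normal fun z hz =>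
    st.self (Subgroup.mem_centralizer_iff.2 fun x hx =>
      Subgroup.mem_centralizer_iff.1 (Subgroup.mem_inf.1 hz).2 x (pCore_le S hx))
  haveI hCQn : (Subgroup.centralizer (Q : Set G)).Normal := Subgroup.normal_centralizer
  have hVC : V ≤ Subgroup.centralizer (Q : Set G) :=
    Subgroup.normalClosure_le_normal fun z hz => Subgroup.mem_centralizer_iff.2 fun x hx =>
      Subgroup.mem_centralizer_iff.1 (Subgroup.mem_inf.1 hz).2 x (pCore_le S hx)
  have hQV : ∀ x ∈ Q, ∀ v ∈ V, Commute x v := fun x hx v hv =>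
    Subgroup.mem_centralizer_iff.1 (hVC hv) x hx
  have hVc : ∀ x ∈ V, ∀ y ∈ V, Commute x y := fun x hx y hy => hQV x (hVQ hx) y hy
  have hVS : V ≤ (S : Subgroup G) := hVQ.trans (pCore_le S)
  -- `p`-th powers are central
  have hpcen : ∀ v ∈ V, v ^ p ∈ Subgroup.center G := by
    let X : Subgroup G :=
      { carrier := {v | v ∈ V ∧ v ^ p ∈ Subgroup.center G}
        one_mem' := ⟨one_mem _, by rw [one_pow]; exact one_mem _⟩
        mul_mem' := fun {a c} ha hc => ⟨mul_mem ha.1 hc.1, by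
          rw [(hVc a ha.1 c hc.1).mul_pow]; exact mul_mem ha.2 hc.2⟩
        inv_mem' := fun {a} ha => ⟨inv_mem ha.1, by rw [inv_pow]; exact inv_mem ha.2⟩ }
    haveI : X.Normal := ⟨fun v hv g => ⟨(Vc_normal S).conj_mem v hv.1 g, by
      rw [conj_pow, Subgroup.mem_center_iff.1 hv.2 g, mul_inv_cancel_right]; exact hv.2⟩⟩
    exact fun v hv => (Subgroup.normalClosure_le_normal (N := X)
      (fun z hz => ⟨Subgroup.le_normalClosure hz,
        Subgroup.mem_center_iff.2 fun g => (hpc z hz g).eq.symm⟩) hv).2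
  -- the elementary part
  let V₁ : Subgroup G :=
    { carrier := {v | v ∈ V ∧ v ^ p = 1}
      one_mem' := ⟨one_mem _, one_pow p⟩
      mul_mem' := fun {a c} ha hc => ⟨mul_mem ha.1 hc.1, by
        rw [(hVc a ha.1 c hc.1).mul_pow, ha.2, hc.2, one_mul]⟩
      inv_mem' := fun {a} ha => ⟨inv_mem ha.1, by rw [inv_pow, ha.2, inv_one]⟩ }
  haveI hV₁n : V₁.Normal := ⟨fun v hv g => ⟨(Vc_normal S).conj_mem v hv.1 g, by
    rw [conj_pow, hv.2]; group⟩⟩
  have hV₁V : V₁ ≤ V := fun _ h => h.1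
  have hcomm₁ : ∀ g, ∀ v ∈ V, ⁅g, v⁆ ∈ V₁ := fun g v hv => by
    have hgv : g * v * g⁻¹ ∈ V := (Vc_normal S).conj_mem v hv g
    refine ⟨mul_mem hgv (inv_mem hv), ?_⟩
    rw [commutatorElement_def, (hVc _ hgv _ (inv_mem hv)).mul_pow, conj_pow,
      Subgroup.mem_center_iff.1 (hpcen v hv) g, mul_inv_cancel_right, inv_pow, mul_inv_cancel]
  have hDM : ∀ g, (∀ u ∈ V₁, ⁅g, u⁆ ∈ (⊥ : Subgroup G)) → g ∈ M := by
    intro g hg
    set R := Subgroup.centralizer (V : Set G) with hR
    haveI : R.Normal := Subgroup.normal_centralizer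
    set R₁ := Subgroup.centralizer (V₁ : Set G) with hR₁
    haveI : R₁.Normal := Subgroup.normal_centralizer
    have hgR : g ∈ R₁ := Subgroup.mem_centralizer_iff.2 fun u hu =>
      (commutatorElement_eq_one_iff_mul_comm.1 (Subgroup.mem_bot.1 (hg u hu))).symm
    have hpg : IsPGroup p (R₁.map (QuotientGroup.mk' R)) := by
      rintro ⟨_, x, hx, rfl⟩
      obtain ⟨a, m, -, hm, hord⟩ := exists_parts p x
      refine ⟨a, Subtype.ext ?_⟩
      show (QuotientGroup.mk' R x) ^ p ^ a = 1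
      rw [← map_pow]
      refine (QuotientGroup.eq_one_iff _).2 (Subgroup.mem_centralizer_iff.2 fun v hv => ?_)
      refine (commute_of_stable (p := p) hm
        (by rw [← pow_mul, ← hord, pow_orderOf_eq_one]) ?_ (k := 1)
        (by rw [pow_one]; exact (hcomm₁ (x ^ p ^ a) v hv).2)).eq.symm
      exact (Subgroup.mem_centralizer_iff.1 (pow_mem hx _) _ (hcomm₁ _ v hv)).symm
    let P' : Sylow p (G ⧸ R) := S.mapSurjective (QuotientGroup.mk'_surjective R)
    haveI : (R₁.map (QuotientGroup.mk' R)).Normal :=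
      (inferInstance : R₁.Normal).map _ (QuotientGroup.mk'_surjective R)
    have h1 := IsPGroup.le_sylow_of_normal hpg P'
    rw [Sylow.coe_mapSurjective] at h1
    obtain ⟨s, hs, e⟩ := h1 ⟨g, hgR, rfl⟩
    have h2 : s⁻¹ * g ∈ R := QuotientGroup.eq.1 e
    rw [show g = s * (s⁻¹ * g) by group]
    exact mul_mem (st.le hs) (hVM h2)
  set L := V₁ ⊓ CS with hL
  -- the natural module
  have hcardL : Nat.card V₁ * Nat.card Q ≤ Nat.card (S : Subgroup G) * Nat.card L := by
    have hinf : V₁ ⊓ (V ⊓ CS) = L := by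
      rw [hL, ← inf_assoc, inf_eq_left.2 hV₁V]
    have hle : Nat.card V₁ * Nat.card ↥(V ⊓ CS) ≤ Nat.card V * Nat.card L := by
      rw [← hinf]
      exact (CD.card_mul_le V₁ (V ⊓ CS)).trans
        (Nat.mul_le_mul_right _ (Subgroup.card_le_of_le (sup_le hV₁V inf_le_left)))
    refine Nat.le_of_mul_le_mul_right (?_ : _ * Nat.card ↥(V ⊓ CS) ≤ _ * Nat.card ↥(V ⊓ CS)) Nat.card_pos
    calc Nat.card V₁ * Nat.card Q * Nat.card ↥(V ⊓ CS)
        = Nat.card V₁ * Nat.card ↥(V ⊓ CS) * Nat.card Q := by ring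
      _ ≤ Nat.card V * Nat.card L * Nat.card Q := Nat.mul_le_mul_right _ hle
      _ = Nat.card V * Nat.card Q * Nat.card L := by ring
      _ ≤ Nat.card (S : Subgroup G) * Nat.card ↥(V ⊓ CS) * Nat.card L := Nat.mul_le_mul_right _ hcard
      _ = _ := by ring
  obtain ⟨ρ, ψ, hnat⟩ := exists_natural st V₁ ⊥ bot_le
    (Subgroup.commutator_le.2 fun a ha c hc => Subgroup.mem_bot.2
      (commutatorElement_eq_one_iff_commute.2 (hVc a ha.1 c hc.1)))
    (fun v hv => Subgroup.mem_bot.2 hv.2)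
    (Subgroup.commutator_le.2 fun a ha c hc => Subgroup.mem_bot.2
      (commutatorElement_eq_one_iff_commute.2 (hQV a ha c hc.1)))
    (by
      refine Subgroup.commutator_le.2 fun a ha c hc => Subgroup.mem_bot.2 ?_
      rw [commutatorElement_eq_one_iff_commute]
      have hle : ⁅(S : Subgroup G), V₁⁆ ≤ CS :=
        Subgroup.commutator_le.2 fun s hs v hv => Subgroup.mem_centralizer_iff.2 fun t ht =>
          (hquad v hv.1 hv.2 s hs t ht).symm.eq
      exact Subgroup.mem_centralizer_iff.1 (hle hc) a ha)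
    (L := L) bot_le inf_le_left
    (Subgroup.commutator_le.2 fun a ha c hc => Subgroup.mem_bot.2
      (commutatorElement_eq_one_iff_commute.2 (Subgroup.mem_centralizer_iff.1 hc.2 a ha)))
    hcardL hDM
  have hline : ∀ v ∈ V₁, ψ v 1 = 0 ↔ v ∈ CS := fun v hv => by
    rw [← hnat.line v hv, Subgroup.mem_centralizer_iff]
    simp only [Subgroup.mem_bot, commutatorElement_eq_one_iff_mul_comm]
    rfl
  -- covering gives the index
  have hcover : ∀ X : Subgroup G, X ≤ V₁ → (∀ z, ∃ a ∈ X, ψ a = z) →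
      Nat.card F * Nat.card ↥(X ⊓ CS) ≤ Nat.card X := by
    intro X hX hon
    let f : X →* Multiplicative F := MonoidHom.mk' (fun v => Multiplicative.ofAdd (ψ v 1))
      fun v w => by rw [Subgroup.coe_mul, hnat.add _ (hX v.2) _ (hX w.2)]; rfl
    have hf : Function.Surjective f := fun z => by
      obtain ⟨v, hv, e⟩ := hon ![0, z.toAdd]
      exact ⟨⟨v, hv⟩, show Multiplicative.ofAdd (ψ v 1) = z by rw [e]; rfl⟩
    rw [Subgroup.card_eq_card_quotient_mul_card_subgroup f.ker,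
      Nat.card_congr (QuotientGroup.quotientKerEquivOfSurjective f hf).toEquiv,
      show Nat.card (Multiplicative F) = Nat.card F from rfl]
    refine Nat.mul_le_mul_left _ (Nat.card_le_card_of_injective
      (fun v => ⟨⟨v, v.2.1⟩, ?_⟩) fun v w e => Subtype.ext
        (congrArg (fun u : f.ker => ((u : X) : G)) e))
    show Multiplicative.ofAdd (ψ (v : G) 1) = 1
    rw [(hline _ (hX v.2.1)).2 v.2.2]
    rfl
  have hVdec : ∀ v ∈ V, ∃ v₁ ∈ V₁, ∃ c ∈ V ⊓ CS, v = v₁ * c := by
    have hle : Nat.card V ≤ Nat.card ↥(V₁ ⊔ (V ⊓ CS)) := by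
      have h1 := hcover V₁ le_rfl hnat.onto
      have h2 : Nat.card V ≤ Nat.card F * Nat.card ↥(V ⊓ CS) := by
        refine Nat.le_of_mul_le_mul_right (?_ : _ * Nat.card Q ≤ _ * Nat.card Q) Nat.card_pos
        have hcard' : Nat.card V * Nat.card Q ≤ Nat.card F * Nat.card Q * Nat.card ↥(V ⊓ CS) :=
          card_S st ▸ hcard
        refine hcard'.trans (le_of_eq ?_)
        ring
      have hinf : V₁ ⊓ (V ⊓ CS) = V₁ ⊓ CS := by rw [← inf_assoc, inf_eq_left.2 hV₁V]
      refine Nat.le_of_mul_le_mul_right (?_ : _ * Nat.card ↥(V₁ ⊓ CS) ≤ _ * Nat.card ↥(V₁ ⊓ CS))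
        Nat.card_pos
      calc Nat.card V * Nat.card ↥(V₁ ⊓ CS)
          ≤ Nat.card F * Nat.card ↥(V ⊓ CS) * Nat.card ↥(V₁ ⊓ CS) := Nat.mul_le_mul_right _ h2
        _ = Nat.card F * Nat.card ↥(V₁ ⊓ CS) * Nat.card ↥(V ⊓ CS) := by ring
        _ ≤ Nat.card V₁ * Nat.card ↥(V ⊓ CS) := Nat.mul_le_mul_right _ h1
        _ ≤ _ := by rw [← hinf]; exact CD.card_mul_le _ _
    have he : V₁ ⊔ (V ⊓ CS) = V := Subgroup.eq_of_le_of_card_ge (sup_le hV₁V inf_le_left) hle
    intro v hv
    rw [← he, ← SetLike.mem_coe, Subgroup.normal_mul, Set.mem_mul] at hv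
    obtain ⟨a, ha, c, hc, rfl⟩ := hv
    exact ⟨a, ha, c, hc, rfl⟩
  have hfix : ∀ x ∈ (S : Subgroup G), x ∉ Q → ∀ v ∈ V, Commute x v → v ∈ CS := by
    intro x hx hxQ v hv hc
    obtain ⟨a, ha, c, hc', rfl⟩ := hVdec v hv
    have hxc : Commute x c := Subgroup.mem_centralizer_iff.1 hc'.2 x hx
    have hxa : Commute x a := by
      rw [show a = a * c * c⁻¹ by group]
      exact hc.mul_right hxc.inv_right
    refine mul_mem ((hline a ha).1 ?_) hc'.2
    obtain ⟨l, hl⟩ := hnat.upper x hx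
    have hl0 : l ≠ 0 := fun e => hxQ ((hnat.inf x hx).1 (by rw [hl, e]; exact map_one _))
    have h1 := congrFun (hnat.map_comm_upper hl ha) 0
    rw [commutatorElement_eq_one_iff_commute.2 hxa, hnat.map_one] at h1
    simp at h1
    exact h1.resolve_left hl0
  -- the offender
  have hWV : W ≤ V := Subgroup.normalClosure_mono (SetLike.coe_subset_coe.2 hZ₀)
  have hWS : W ≤ (S : Subgroup G) := hWV.trans hVS
  set W₁ := W ⊓ V₁
  have hW₁on : ∀ z, ∃ a ∈ W₁, ψ a = z := by
    refine (hnat.dichotomy W₁ inf_le_right).resolve_left fun hle => hn ?_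
    refine normal_of_le_center fun z hz => central_of_comm st (hZ₀ hz).2 fun g => ?_
    have h1 : ⁅g, z⁆ ∈ W₁ :=
      ⟨W.mul_mem (hWn.conj_mem z (Subgroup.le_normalClosure hz) g)
        (W.inv_mem (Subgroup.le_normalClosure hz)),
       hcomm₁ g z (Subgroup.le_normalClosure (hZ₀ hz))⟩
    have h2 := hle h1
    rw [fixMod_bot] at h2
    exact h2.2
  have hcentre : ∀ X : Subgroup G, X ≤ (S : Subgroup G) →
      Nat.card ↥(X.subgroupOf (S : Subgroup G) ⊓ Subgroup.center (S : Subgroup G)) =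
        Nat.card ↥(X ⊓ CS) := by
    intro X hX
    rw [← Subgroup.card_map_of_injective (S : Subgroup G).subtype_injective]
    refine congrArg (fun H : Subgroup G => Nat.card H) (le_antisymm ?_ ?_)
    · rintro _ ⟨x, hx, rfl⟩
      exact ⟨hx.1, Subgroup.mem_centralizer_iff.2 fun s hs =>
        congrArg Subtype.val (Subgroup.mem_center_iff.1 hx.2 ⟨s, hs⟩)⟩
    · intro x hx
      exact ⟨⟨x, hX hx.1⟩, ⟨hx.1, Subgroup.mem_center_iff.2 fun s => Subtype.ext
        (Subgroup.mem_centralizer_iff.1 hx.2 s s.2)⟩, rfl⟩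
  have hW₁S : W₁ ≤ (S : Subgroup G) := inf_le_left.trans hWS
  have hwide₁ : Nat.card F * Nat.card ↥(W₁ ⊓ CS) ≤ Nat.card W₁ := hcover W₁ inf_le_right hW₁on
  refine ⟨W₁, inf_le_left, fun w hw => hw.2.2, ⟨Finite.one_lt_card, ?_, ?_, card_le_inf_core st, ?_, ?_⟩,
    ?_⟩
  · exact fun x hx => (hWV.trans hVQ) hx
  · intro x hx w hw
    exact Subtype.ext (hQV x hx w (hWV hw)).eq
  · rw [hcentre W hWS, Nat.card_congr (Subgroup.subgroupOfEquivOfLe hWS).toEquiv]
    have hinf : W₁ ⊓ (W ⊓ CS) = W₁ ⊓ CS := by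
      rw [← inf_assoc, inf_eq_left.2 (inf_le_left : W₁ ≤ W)]
    refine Nat.le_of_mul_le_mul_right (?_ : _ * Nat.card ↥(W₁ ⊓ CS) ≤ _ * Nat.card ↥(W₁ ⊓ CS))
      Nat.card_pos
    calc Nat.card F * Nat.card ↥(W ⊓ CS) * Nat.card ↥(W₁ ⊓ CS)
        = Nat.card F * Nat.card ↥(W₁ ⊓ CS) * Nat.card ↥(W ⊓ CS) := by ring
      _ ≤ Nat.card W₁ * Nat.card ↥(W ⊓ CS) := Nat.mul_le_mul_right _ hwide₁
      _ ≤ Nat.card W * Nat.card ↥(W₁ ⊓ CS) := by
        rw [← hinf]
        exact (CD.card_mul_le _ _).trans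
          (Nat.mul_le_mul_right _ (Subgroup.card_le_of_le (sup_le inf_le_left inf_le_left)))
  · intro x hx w hw hc
    refine Subgroup.mem_center_iff.2 fun s => Subtype.ext ?_
    exact Subgroup.mem_centralizer_iff.1
      (hfix x x.2 hx w (hWV hw) (congrArg Subtype.val hc.eq)) s s.2
  · rw [hcentre W₁ hW₁S, Nat.card_congr (Subgroup.subgroupOfEquivOfLe hW₁S).toEquiv]
    exact hwide₁

/-! ### Invariant families -/

/-- The conjugation map on a subgroup of the core. -/
def conjInto (S : Sylow p G) {R : Subgroup (S : Subgroup G)}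
    (hR : R ≤ (Cfsg.pCore p G).subgroupOf (S : Subgroup G)) (g : G) : R →* (S : Subgroup G) :=
  MonoidHom.mk' (fun r => ⟨g * (r : G) * g⁻¹,
    pCore_le S ((Fitting.pCore_normal p).conj_mem _ (hR r.2) g)⟩) fun r s => Subtype.ext (by
      show g * ((r : G) * (s : G)) * g⁻¹ = g * (r : G) * g⁻¹ * (g * (s : G) * g⁻¹)
      group)

theorem conjInto_injective {R : Subgroup (S : Subgroup G)}
    (hR : R ≤ (Cfsg.pCore p G).subgroupOf (S : Subgroup G)) (g : G) :
    Function.Injective (conjInto S hR g) := fun r s h => by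
  have h1 : g * (r : G) * g⁻¹ = g * (s : G) * g⁻¹ := congrArg Subtype.val h
  exact Subtype.ext (Subtype.ext (mul_left_cancel (mul_right_cancel h1)))

theorem conjInto_range_le {R : Subgroup (S : Subgroup G)}
    (hR : R ≤ (Cfsg.pCore p G).subgroupOf (S : Subgroup G)) (g : G) :
    (conjInto S hR g).range ≤ (Cfsg.pCore p G).subgroupOf (S : Subgroup G) := by
  rintro _ ⟨r, rfl⟩
  exact (Fitting.pCore_normal p).conj_mem _ (hR r.2) g

/-- The derived subgroup of a minimal centrally large subgroup inside the core gives a normal subgroup. -/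
theorem derived_normal {R : Subgroup (S : Subgroup G)} (hR : Cfsg.IsMinimalCentrallyLarge R)
    (hRQ : R ≤ (Cfsg.pCore p G).subgroupOf (S : Subgroup G)) :
    ((⁅R, R⁆).map (S : Subgroup G).subtype).Normal := by
  refine ⟨fun x hx g => ?_⟩
  obtain ⟨d, hd, rfl⟩ := hx
  have hR' := CD.Offender.mcl_range hR _ (conjInto_injective hRQ g)
  have e := (Cfsg.Agent.S3007.uniform _ R hR' hR).1
  have hd' : d ∈ (⁅(⊤ : Subgroup R), (⊤ : Subgroup R)⁆ : Subgroup R).map R.subtype := by
    rwa [Subgroup.map_commutator, ← MonoidHom.range_eq_map, Subgroup.range_subtype]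
  obtain ⟨r, hr, rfl⟩ := hd'
  refine ⟨conjInto S hRQ g r, ?_, rfl⟩
  rw [SetLike.mem_coe, ← e, MonoidHom.range_eq_map, ← Subgroup.map_commutator]
  exact ⟨r, hr, rfl⟩

theorem derived_char {P : Type*} [Group P] [Finite P] {R : Subgroup P}
    (hR : Cfsg.IsMinimalCentrallyLarge R) : (⁅R, R⁆).Characteristic := by
  refine Subgroup.characteristic_iff_map_le.2 fun φ => ?_
  have hR' := CD.Offender.mcl_range hR (φ.toMonoidHom.comp R.subtype)
    (φ.injective.comp R.subtype_injective)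
  rw [MonoidHom.range_comp, Subgroup.range_subtype] at hR'
  rw [Subgroup.map_commutator, (Cfsg.Agent.S3007.uniform _ R hR' hR).1]

/-- The join of an invariant family inside the core is normal. -/
theorem sSup_normal {𝒯 : Set (Subgroup (S : Subgroup G))}
    (h : ∀ R ∈ 𝒯, ∀ g : G, ∀ x ∈ R, ∀ y : (S : Subgroup G), (y : G) = g * (x : G) * g⁻¹ → y ∈ sSup 𝒯)
    (hQ : ∀ R ∈ 𝒯, R ≤ (Cfsg.pCore p G).subgroupOf (S : Subgroup G)) :
    ((sSup 𝒯).map (S : Subgroup G).subtype).Normal := by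
  refine ⟨fun x hx g => ?_⟩
  have hle : (sSup 𝒯).map (S : Subgroup G).subtype ≤
      ((sSup 𝒯).map (S : Subgroup G).subtype).comap (MulAut.conj g).toMonoidHom := by
    rw [Subgroup.map_le_iff_le_comap, sSup_le_iff]
    intro R hR r hr
    exact ⟨⟨g * (r : G) * g⁻¹,
      pCore_le S ((Fitting.pCore_normal p).conj_mem _ (hQ R hR hr) g)⟩, h R hR g r hr _ rfl, rfl⟩
  exact hle hx

theorem mclJoin_normal
    (h : ∀ R : Subgroup (S : Subgroup G), Cfsg.IsMinimalCentrallyLarge R →
      R ≤ (Cfsg.pCore p G).subgroupOf (S : Subgroup G)) :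
    ((Cfsg.minimalCentrallyLargeJoin (S : Subgroup G)).map (S : Subgroup G).subtype).Normal := by
  refine sSup_normal (fun R hR g x hx y hy => ?_) h
  refine le_sSup (show _ ∈ {X : Subgroup (S : Subgroup G) | Cfsg.IsMinimalCentrallyLarge X} from
    CD.Offender.mcl_range hR _ (conjInto_injective (h R hR) g)) ?_
  exact ⟨⟨x, hx⟩, Subtype.ext hy.symm⟩

/-- The first alternative for minimal centrally large subgroups. -/
theorem derived_case (st : Setting S M π)
    (hJ : (S : Subgroup G) ≤ Subgroup.centralizer (Cfsg.centerThompsonAOf (S : Subgroup G) : Set G))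
    {R₀ : Subgroup (S : Subgroup G)} (hR₀ : Cfsg.IsMinimalCentrallyLarge R₀) :
    (Zc S ⊓ (⁅R₀, R₀⁆).map (S : Subgroup G).subtype).Normal ∨
      ((Cfsg.minimalCentrallyLargeJoin (S : Subgroup G)).map (S : Subgroup G).subtype).Normal := by
  by_contra h
  push Not at h
  obtain ⟨h1, h2⟩ := h
  obtain ⟨R, hR, hRQ⟩ : ∃ R : Subgroup (S : Subgroup G), Cfsg.IsMinimalCentrallyLarge R ∧
      ¬ R ≤ (Cfsg.pCore p G).subgroupOf (S : Subgroup G) := by
    by_contra hall
    push Not at hall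
    exact h2 (mclJoin_normal hall)
  obtain ⟨W₁, -, -, hact, -⟩ := exists_act st hJ inf_le_left h1
  obtain ⟨hT, hWR, hTQ, -, -, -⟩ := CD.Offender.replace hact hR hRQ
  haveI := derived_normal hT hTQ
  refine hWR fun x hx => ?_
  have hD : ∀ R' : Subgroup (S : Subgroup G), Cfsg.IsMinimalCentrallyLarge R' →
      ⁅R', R'⁆ = ⁅R₀, R₀⁆ := fun R' hR' => (Cfsg.Agent.S3007.uniform R' R₀ hR' hR₀).1
  have hle : Subgroup.normalClosure
      ((Zc S ⊓ (⁅R₀, R₀⁆).map (S : Subgroup G).subtype : Subgroup G) : Set G) ≤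
        (⁅R₀, R₀⁆).map (S : Subgroup G).subtype := by
    rw [← hD _ hT]
    exact Subgroup.normalClosure_le_normal fun z hz => hz.2
  obtain ⟨d, hd, e⟩ := hle hx
  rw [← Subtype.ext e]
  rw [SetLike.mem_coe, ← hD R hR] at hd
  exact R.commutator_le_self hd

/-- The second alternative for minimal centrally large subgroups. -/
theorem frattini_case (st : Setting S M π)
    (hJ : (S : Subgroup G) ≤ Subgroup.centralizer (Cfsg.centerThompsonAOf (S : Subgroup G) : Set G)) :
    (Zc S).Normal ∨ ((Cfsg.frattiniOfMinimalCLJoin p (S : Subgroup G)).map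
      (S : Subgroup G).subtype).Normal := by
  by_contra h
  push Not at h
  obtain ⟨h1, h2⟩ := h
  obtain ⟨W₁, hW₁, hW₁p, hact, hwide⟩ := exists_act st hJ le_rfl h1
  refine h2 ?_
  set Q₀ := (Cfsg.pCore p G).subgroupOf (S : Subgroup G)
  have hP : IsPGroup p (S : Subgroup G) := S.2
  -- the members inside the core suffice
  set 𝒯 : Set (Subgroup (S : Subgroup G)) := phi '' {R | Cfsg.IsMinimalCentrallyLarge R ∧
    Nat.card (Cfsg.omegaOneCenter p R) = Cfsg.maxOmegaCenterOfMinimalCL p (S : Subgroup G) ∧ R ≤ Q₀}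
  have he : Cfsg.frattiniOfMinimalCLJoin p (S : Subgroup G) = sSup 𝒯 := by
    refine le_antisymm (iSup_le fun R => ?_) (sSup_le ?_)
    · by_cases hRQ : (R : Subgroup (S : Subgroup G)) ≤ Q₀
      · exact le_sSup ⟨R, ⟨R.2.1, R.2.2, hRQ⟩, rfl⟩
      · obtain ⟨T, hTQ, hT, hTm, e⟩ := CD.Offender.replace_frattini (p := p) hP hact
          (W₁ := W₁.subgroupOf (S : Subgroup G)) (fun w hw => hW₁ hw)
          (fun w hw => Subtype.ext (hW₁p w hw)) hwide R.2.1 R.2.2 hRQ
        exact e.le.trans (le_sSup ⟨T, ⟨hT, hTm, hTQ⟩, rfl⟩)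
    · rintro _ ⟨R, ⟨hR, hRm, -⟩, rfl⟩
      exact le_iSup_of_le ⟨R, hR, hRm⟩ le_rfl
  rw [he]
  refine sSup_normal ?_ ?_
  · rintro _ ⟨R, ⟨hR, hRm, hRQ⟩, rfl⟩ g x hx y hy
    have hinj := conjInto_injective hRQ g
    have hmem : phi (conjInto S hRQ g).range ∈ 𝒯 := by
      refine ⟨_, ⟨CD.Offender.mcl_range hR _ hinj, ?_, conjInto_range_le hRQ g⟩, rfl⟩
      rw [← CD.Offender.card_om_congr p (MonoidHom.ofInjective hinj), hRm]
    refine le_sSup hmem ?_
    · have h3 := CD.Offender.map_phi_le (MonoidHom.ofInjective hinj) hx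
      have : y = ((MonoidHom.ofInjective hinj ⟨x, CD.Offender.phi_le R hx⟩ :
          (conjInto S hRQ g).range) : (S : Subgroup G)) := Subtype.ext hy
      rw [this]
      exact h3
  · rintro _ ⟨R, ⟨-, -, hRQ⟩, rfl⟩
    exact (CD.Offender.phi_le R).trans hRQ

end CfsgLib.PushRankOne
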