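import Mathlib

/-!
Automorphisms of a subgroup `S` acting on the subgroups of the ambient group contained in `S`, and
conjugation of subgroups.
-/

set_option autoImplicit false

namespace CfsgLib.PushRankOne

open scoped commutatorElement

variable {G : Type*} [Group G] {S : Subgroup G}

/-- The conjugate of a subgroup. -/
def cj (g : G) (H : Subgroup G) : Subgroup G := H.map (MulAut.conj g).toMonoidHom

theorem mem_cj {g x : G} {H : Subgroup G} : x ∈ cj g H ↔ g⁻¹ * x * g ∈ H := by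
  refine ⟨?_, fun h => ⟨_, h, by simp [mul_assoc]⟩⟩
  rintro ⟨y, hy, rfl⟩
  simpa [mul_assoc] using hy

theorem mem_cj_of_mem (g : G) {x : G} {H : Subgroup G} (h : x ∈ H) : g * x * g⁻¹ ∈ cj g H := ⟨x, h, rfl⟩

theorem cj_cj (g h : G) (H : Subgroup G) : cj g (cj h H) = cj (g * h) H := by
  ext x
  simp only [mem_cj, mul_inv_rev, mul_assoc]

theorem cj_one (H : Subgroup G) : cj (1 : G) H = H := by
  ext x
  simp [mem_cj]

theorem cj_inv_cj (g : G) (H : Subgroup G) : cj g⁻¹ (cj g H) = H := by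
  rw [cj_cj, inv_mul_cancel, cj_one]

theorem cj_cj_inv (g : G) (H : Subgroup G) : cj g (cj g⁻¹ H) = H := by
  rw [cj_cj, mul_inv_cancel, cj_one]

theorem cj_mono (g : G) {A B : Subgroup G} (h : A ≤ B) : cj g A ≤ cj g B := Subgroup.map_mono h

theorem cj_le_iff (g : G) {A B : Subgroup G} : cj g A ≤ cj g B ↔ A ≤ B :=
  Subgroup.map_le_map_iff_of_injective (MulAut.conj g).injective

theorem cj_comm (g : G) (A B : Subgroup G) : cj g ⁅A, B⁆ = ⁅cj g A, cj g B⁆ := Subgroup.map_commutator _ _ _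

theorem card_cj (g : G) (H : Subgroup G) : Nat.card (cj g H) = Nat.card H :=
  Subgroup.card_map_of_injective (MulAut.conj g).injective

theorem cj_eq_of_normal (g : G) (H : Subgroup G) [hH : H.Normal] : cj g H = H := by
  ext x
  rw [mem_cj]
  exact ⟨fun h => by simpa [mul_assoc] using hH.conj_mem _ h g, fun h => by
    simpa [mul_assoc] using hH.conj_mem _ h g⁻¹⟩

theorem cj_eq_of_mem {g : G} {H : Subgroup G} (hg : g ∈ Subgroup.normalizer (H : Set G)) :
    cj g H = H := by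
  ext x
  rw [mem_cj]
  have := Subgroup.mem_normalizer_iff.1 (inv_mem hg) x
  rw [inv_inv] at this
  exact this.symm

/-- An automorphism of `S` acting on the subgroups of `S`. -/
def act (α : MulAut S) (H : Subgroup G) : Subgroup G :=
  ((H.subgroupOf S).map α.toMonoidHom).map S.subtype

theorem mem_act {α : MulAut S} {H : Subgroup G} {x : G} :
    x ∈ act α H ↔ ∃ h : S, (h : G) ∈ H ∧ (α h : G) = x := by
  constructor
  · rintro ⟨_, ⟨h, hh, rfl⟩, rfl⟩
    exact ⟨h, hh, rfl⟩
  · rintro ⟨h, hh, rfl⟩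
    exact ⟨_, ⟨h, hh, rfl⟩, rfl⟩

theorem mem_act_of_mem (α : MulAut S) {H : Subgroup G} {h : S} (hh : (h : G) ∈ H) : (α h : G) ∈ act α H :=
  mem_act.2 ⟨h, hh, rfl⟩

theorem act_le (α : MulAut S) (H : Subgroup G) : act α H ≤ S := Subgroup.map_subtype_le _

theorem act_mono (α : MulAut S) {A B : Subgroup G} (h : A ≤ B) : act α A ≤ act α B :=
  Subgroup.map_mono (Subgroup.map_mono (Subgroup.comap_mono h))

theorem act_act (α β : MulAut S) (H : Subgroup G) : act α (act β H) = act (α * β) H := by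
  ext x
  rw [mem_act, mem_act]
  constructor
  · rintro ⟨h, hh, rfl⟩
    obtain ⟨k, hk, e⟩ := mem_act.1 hh
    exact ⟨k, hk, by rw [MulAut.mul_apply, Subtype.ext e]⟩
  · rintro ⟨k, hk, rfl⟩
    exact ⟨β k, mem_act_of_mem β hk, rfl⟩

theorem act_one {H : Subgroup G} (hH : H ≤ S) : act (1 : MulAut S) H = H := by
  ext x
  rw [mem_act]
  exact ⟨fun ⟨h, hh, e⟩ => e ▸ hh, fun hx => ⟨⟨x, hH hx⟩, hx, rfl⟩⟩

theorem act_inv_act (α : MulAut S) {H : Subgroup G} (hH : H ≤ S) : act α⁻¹ (act α H) = H := by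
  rw [act_act, inv_mul_cancel, act_one hH]

theorem act_act_inv (α : MulAut S) {H : Subgroup G} (hH : H ≤ S) : act α (act α⁻¹ H) = H := by
  rw [act_act, mul_inv_cancel, act_one hH]

theorem act_self (α : MulAut S) : act α S = S :=
  le_antisymm (act_le α S) fun x hx => mem_act.2 ⟨α⁻¹ ⟨x, hx⟩, (α⁻¹ ⟨x, hx⟩).2, by
    rw [← MulAut.mul_apply, mul_inv_cancel, MulAut.one_apply]⟩

theorem card_act (α : MulAut S) {H : Subgroup G} (hH : H ≤ S) : Nat.card (act α H) = Nat.card H := by
  rw [act, Subgroup.card_map_of_injective S.subtype_injective, Subgroup.card_map_of_injective α.injective]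
  exact Nat.card_congr (Subgroup.subgroupOfEquivOfLe hH).toEquiv

theorem act_le_iff (α : MulAut S) {A B : Subgroup G} (hA : A ≤ S) (hB : B ≤ S) :
    act α A ≤ act α B ↔ A ≤ B :=
  ⟨fun h => by
    have := act_mono α⁻¹ h
    rwa [act_inv_act α hA, act_inv_act α hB] at this, act_mono α⟩

theorem act_le_comm (α : MulAut S) {A B : Subgroup G} (hA : A ≤ S) (hB : B ≤ S) :
    act α A ≤ B ↔ A ≤ act α⁻¹ B := by
  rw [← act_le_iff α hA (act_le _ _), act_act_inv α hB]

theorem act_comm (α : MulAut S) {A B : Subgroup G} (hA : A ≤ S) (hB : B ≤ S) :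
    act α ⁅A, B⁆ = ⁅act α A, act α B⁆ := by
  have h : (⁅A, B⁆ : Subgroup G).subgroupOf S = ⁅A.subgroupOf S, B.subgroupOf S⁆ :=
    Subgroup.map_injective S.subtype_injective (by
      rw [Subgroup.map_commutator, Subgroup.subgroupOf_map_subtype, Subgroup.subgroupOf_map_subtype,
        Subgroup.subgroupOf_map_subtype, inf_eq_left.2 hA, inf_eq_left.2 hB, inf_eq_left.2
          ((Subgroup.commutator_mono hA hB).trans (Subgroup.commutator_le_self S))])
  rw [act, h, Subgroup.map_commutator, Subgroup.map_commutator, ← act, ← act]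

theorem act_sup (α : MulAut S) {A B : Subgroup G} (hA : A ≤ S) (hB : B ≤ S) :
    act α (A ⊔ B) = act α A ⊔ act α B := by
  refine le_antisymm ?_ (sup_le (act_mono α le_sup_left) (act_mono α le_sup_right))
  rw [act_le_comm α (sup_le hA hB) (sup_le (act_le _ _) (act_le _ _))]
  exact sup_le ((act_le_comm α hA (sup_le (act_le _ _) (act_le _ _))).1 le_sup_left)
    ((act_le_comm α hB (sup_le (act_le _ _) (act_le _ _))).1 le_sup_right)

theorem act_norm (α : MulAut S) {H : Subgroup G} (hn : S ≤ Subgroup.normalizer (H : Set G)) :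
    ∀ s ∈ S, ∀ x ∈ act α H, s * x * s⁻¹ ∈ act α H := by
  intro s hs x hx
  obtain ⟨h, hh, rfl⟩ := mem_act.1 hx
  refine mem_act.2 ⟨α⁻¹ ⟨s, hs⟩ * h * (α⁻¹ ⟨s, hs⟩)⁻¹,
    ((Subgroup.mem_normalizer_iff.1 (hn (α⁻¹ ⟨s, hs⟩).2)) h).1 hh, ?_⟩
  rw [map_mul, map_mul, map_inv, ← MulAut.mul_apply, mul_inv_cancel, MulAut.one_apply]
  rfl

theorem le_normalizer_act (α : MulAut S) {H : Subgroup G}
    (hn : S ≤ Subgroup.normalizer (H : Set G)) : S ≤ Subgroup.normalizer ((act α H : Subgroup G) : Set G) :=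
  fun s hs => Subgroup.mem_normalizer_iff.2 fun x => ⟨act_norm α hn s hs x, fun h => by
    have := act_norm α hn s⁻¹ (inv_mem hs) _ h
    simpa [mul_assoc] using this⟩

end CfsgLib.PushRankOne
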