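import Cfsg.Agent.Lib.PushRankOne.Tools
import Cfsg.Agent.Lib.Signalizer.Tools
import Cfsg.Agent.S2769
import Cfsg.Agent.S2770

/-!
The first consequences of the hypothesis that no non-trivial characteristic subgroup of the Sylow
subgroup is normal: the natural module generated by the centre.
-/

set_option autoImplicit false
set_option linter.unusedSectionVars false

namespace CfsgLib.PushRankOne

open CfsgLib.SL2 CfsgLib.SL2Module CfsgLib.SL2Module.Baumann
open scoped MatrixGroups commutatorElement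

variable {G : Type*} [Group G] [Finite G] {p : ℕ} [hp : Fact p.Prime]

/-- The centre of the Sylow subgroup. -/
def Zc (S : Sylow p G) : Subgroup G :=
  (S : Subgroup G) ⊓ Subgroup.centralizer ((S : Subgroup G) : Set G)

/-- The normal closure of the centre of the Sylow subgroup. -/
def Vc (S : Sylow p G) : Subgroup G := Subgroup.normalClosure (Zc S : Set G)

/-- The commutator of the module with the Sylow subgroup. -/
def Rc (S : Sylow p G) : Subgroup G := ⁅Vc S, (S : Subgroup G)⁆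

instance Vc_normal (S : Sylow p G) : (Vc S).Normal := Subgroup.normalClosure_normal

variable {F : Type} [Field F] [Fintype F] [CharP F p]

/-- The basic facts. -/
structure Base (S : Sylow p G) (M : Subgroup G) (π : G →* Matrix.ProjectiveSpecialLinearGroup (Fin 2) F)
    (ρV : G →* SL(2, F)) (ψV : G → Fin 2 → F) : Prop where
  st : Setting S M π
  inv : ∀ W : Subgroup G, W ≤ (S : Subgroup G) → W.Normal →
    (∀ α : MulAut (S : Subgroup G), act α W ≤ W) → W = ⊥
  nat : Natural S M (Vc S) ⊥ ρV ψV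
  vp : ∀ v ∈ Vc S, v ^ p = 1

theorem act_centralizer {S : Subgroup G} (α : MulAut S) {H : Subgroup G} (hH : H ≤ S) :
    act α (S ⊓ Subgroup.centralizer (H : Set G)) ≤ S ⊓ Subgroup.centralizer (act α H : Set G) := by
  intro x hx
  obtain ⟨h, hh, rfl⟩ := mem_act.1 hx
  refine Subgroup.mem_inf.2 ⟨(α h).2, Subgroup.mem_centralizer_iff.2 fun y hy => ?_⟩
  obtain ⟨k, hk, rfl⟩ := mem_act.1 hy
  have h1 : k * h = h * k := Subtype.ext (Subgroup.mem_centralizer_iff.1 hh.2 k hk)
  exact congrArg Subtype.val (show α k * α h = α h * α k by rw [← map_mul, h1, map_mul])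

theorem act_Zc_le (S : Sylow p G) (α : MulAut (S : Subgroup G)) : act α (Zc S) ≤ Zc S :=
  (act_centralizer α le_rfl).trans (by rw [act_self, Zc])

theorem act_Zc (S : Sylow p G) (α : MulAut (S : Subgroup G)) : act α (Zc S) = Zc S :=
  le_antisymm (act_Zc_le S α)
    (((act_act_inv α (inf_le_left : Zc S ≤ (S : Subgroup G))).ge).trans (act_mono α (act_Zc_le S α⁻¹)))

theorem act_maxAb (S : Sylow p G) (α : MulAut (S : Subgroup G)) {A : Subgroup G}
    (hA : MaxAb (S : Subgroup G) A) : MaxAb (S : Subgroup G) (act α A) := by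
  refine ⟨act_le α A, isAbExp_zero fun x hx y hy => ?_, fun B hB hBe => ?_⟩
  · obtain ⟨h, hh, rfl⟩ := mem_act.1 hx
    obtain ⟨k, hk, rfl⟩ := mem_act.1 hy
    have h1 : h * k = k * h := Subtype.ext (hA.comm h hh k hk).eq
    exact congrArg Subtype.val (show α h * α k = α k * α h by rw [← map_mul, h1, map_mul])
  · rw [card_act α hA.1]
    exact hA.2.2 B hB hBe

theorem act_ZJ (S : Sylow p G) (α : MulAut (S : Subgroup G)) :
    act α (Cfsg.centerThompsonAOf (S : Subgroup G)) ≤ Cfsg.centerThompsonAOf (S : Subgroup G) := by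
  intro x hx
  obtain ⟨h, hh, rfl⟩ := mem_act.1 hx
  refine mem_zj (α h).2 fun A hA a ha => ?_
  have h1 := mem_act_of_mem α⁻¹ (h := (⟨a, hA.1 ha⟩ : (S : Subgroup G))) ha
  have h2 : h * α⁻¹ ⟨a, hA.1 ha⟩ = α⁻¹ ⟨a, hA.1 ha⟩ * h :=
    Subtype.ext (zj_commute (act_maxAb S α⁻¹ hA) hh h1).eq
  have h3 := congrArg α h2
  rw [map_mul, map_mul, ← MulAut.mul_apply, mul_inv_cancel, MulAut.one_apply] at h3
  exact congrArg Subtype.val h3

theorem exists_base (S : Sylow p G)
    (hE₁ : Subgroup.centralizer (Cfsg.pCore p G : Set G) ≤ Cfsg.pCore p G)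
    (hE₂ : ∃! M : Subgroup G, IsCoatom M ∧ (S : Subgroup G) ≤ M) (K : Subgroup G) [K.Normal]
    (n : ℕ) (hn : 1 ≤ n) (hF : Fintype.card F = p ^ n)
    (hE₃ : Nonempty (G ⧸ K ≃* Matrix.ProjectiveSpecialLinearGroup (Fin 2) F))
    (hd : ∀ T : Subgroup ↥(S : Subgroup G), T ≠ ⊥ → T.Characteristic →
      ¬ (T.map (S : Subgroup G).subtype).Normal) :
    ∃ (M : Subgroup G) (π : G →* Matrix.ProjectiveSpecialLinearGroup (Fin 2) F)
      (ρV : G →* SL(2, F)) (ψV : G → Fin 2 → F), Base S M π ρV ψV := by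
  classical
  obtain ⟨M, π, st⟩ := exists_setting (F := F) S hE₁ hE₂ K hE₃
  haveI hQn : (Cfsg.pCore p G).Normal := Fitting.pCore_normal p
  have hinv : ∀ W : Subgroup G, W ≤ (S : Subgroup G) → W.Normal →
      (∀ α : MulAut (S : Subgroup G), act α W ≤ W) → W = ⊥ := by
    intro W hW hWn hα
    by_contra hne
    refine hd (W.subgroupOf (S : Subgroup G)) ?_ ?_ ?_
    · rwa [Ne, Subgroup.subgroupOf_eq_bot, disjoint_iff, inf_eq_left.2 hW]
    · rw [Subgroup.characteristic_iff_map_le]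
      rintro φ _ ⟨x, hx, rfl⟩
      exact hα φ (mem_act_of_mem (α := (φ : MulAut (S : Subgroup G))) hx)
    · rwa [Subgroup.subgroupOf_map_subtype, inf_eq_left.2 hW]
  have hSne : (S : Subgroup G) ≠ ⊥ := fun h => not_le_pCore st (h ▸ bot_le)
  have hZne : Zc S ≠ ⊥ := Signalizer.inf_centralizer_ne_bot S.2 le_rfl Subgroup.le_normalizer hSne
  have hZn : ¬ (Zc S).Normal := fun h => hZne (hinv _ inf_le_left h (act_Zc_le S))
  have hVM : Subgroup.centralizer (Vc S : Set G) ≤ M := by
    by_contra hn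
    exact hZn (normal_of_fixed st hn inf_le_right (Subgroup.centralizer_le Subgroup.subset_normalClosure))
  set ZJ := Cfsg.centerThompsonAOf (S : Subgroup G) with hZJ
  have hZZJ : Zc S ≤ ZJ := fun z hz => mem_zj hz.1 fun A hA a ha =>
    (Subgroup.mem_centralizer_iff.1 hz.2 a (hA.1 ha)).symm
  obtain ⟨A₀, hA₀, hA₀Q⟩ : ∃ A, MaxAb (S : Subgroup G) A ∧ ¬ A ≤ Cfsg.pCore p G := by
    by_contra hall
    push Not at hall
    have h := hinv ZJ zj_le (zj_normal_of_le S hall) (act_ZJ S)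
    exact hZne (le_bot_iff.1 (h ▸ hZZJ))
  have hCn : ¬ ((S : Subgroup G) ⊓ Subgroup.centralizer (ZJ : Set G)).Normal := by
    intro h
    have h1 := hinv _ inf_le_left h fun α => (act_centralizer α zj_le).trans
      (inf_le_inf_left _ (Subgroup.centralizer_le (SetLike.coe_subset_coe.2
        (((act_act_inv α (zj_le : ZJ ≤ (S : Subgroup G))).ge).trans (act_mono α (act_ZJ S α⁻¹))))))
    refine hZne (le_bot_iff.1 (h1 ▸ le_inf inf_le_left fun z hz => ?_))
    exact Subgroup.mem_centralizer_iff.2 fun a ha =>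
      Subgroup.mem_centralizer_iff.1 (Subgroup.mem_inf.1 hz).2 a (zj_le ha)
  have hel : Cfsg.IsElementaryAbelian p (Zc S) := by
    by_contra h
    rcases Cfsg.Agent.S2770.result S hE₁ hE₂ K F n hn hF hE₃ h with h1 | h1
    · have hle : Cfsg.powerClosure p 1 (Zc S) ≤ Zc S := (Subgroup.closure_le _).2 (by
        rintro _ ⟨x, hx, rfl⟩
        exact pow_mem hx _)
      have h2 := hinv _ (hle.trans inf_le_left) h1 fun α => by
        rw [act_le_comm α (hle.trans inf_le_left) (hle.trans inf_le_left)]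
        refine (Subgroup.closure_le _).2 ?_
        rintro _ ⟨x, hx, rfl⟩
        have hxS : x ∈ (S : Subgroup G) := (Subgroup.mem_inf.1 hx).1
        refine mem_act.2 ⟨(α ⟨x, hxS⟩) ^ p ^ 1, ?_, ?_⟩
        · rw [SubmonoidClass.coe_pow]
          exact Subgroup.subset_closure
            ⟨_, act_Zc_le S α (mem_act_of_mem α (h := ⟨x, hxS⟩) hx), rfl⟩
        · rw [map_pow, ← MulAut.mul_apply, inv_mul_cancel, MulAut.one_apply]
          rfl
      refine h ⟨⟨⟨fun a b => Subtype.ext ?_⟩⟩, fun a ha => ?_⟩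
      · exact (Subgroup.mem_centralizer_iff.1 b.2.2 a a.2.1)
      · have h3 : a ^ p ^ 1 ∈ Cfsg.powerClosure p 1 (Zc S) := Subgroup.subset_closure ⟨a, ha, rfl⟩
        rwa [h2, Subgroup.mem_bot, pow_one] at h3
    · exact hCn h1
  obtain ⟨-, hquad, hcard⟩ := structure_full st hA₀ hA₀Q hVM
  have hVQ : Vc S ≤ Cfsg.pCore p G := Subgroup.normalClosure_le_normal fun z hz =>
    hE₁ (Subgroup.mem_centralizer_iff.2 fun x hx =>
      Subgroup.mem_centralizer_iff.1 (Subgroup.mem_inf.1 hz).2 x (pCore_le S hx))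
  haveI hCQn : (Subgroup.centralizer (Cfsg.pCore p G : Set G)).Normal := Subgroup.normal_centralizer
  have hVC : Vc S ≤ Subgroup.centralizer (Cfsg.pCore p G : Set G) :=
    Subgroup.normalClosure_le_normal fun z hz => Subgroup.mem_centralizer_iff.2 fun x hx =>
      Subgroup.mem_centralizer_iff.1 (Subgroup.mem_inf.1 hz).2 x (pCore_le S hx)
  have hVc : ∀ x ∈ Vc S, ∀ y ∈ Vc S, Commute x y := fun x hx y hy =>
    (Subgroup.mem_centralizer_iff.1 (hVC hy) x (hVQ hx))
  have hvp : ∀ v ∈ Vc S, v ^ p = 1 := by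
    let W : Subgroup G :=
      { carrier := {v | v ∈ Vc S ∧ v ^ p = 1}
        one_mem' := ⟨one_mem _, one_pow p⟩
        mul_mem' := fun {a b} ha hb => ⟨mul_mem ha.1 hb.1, by
          rw [(hVc a ha.1 b hb.1).mul_pow, ha.2, hb.2, one_mul]⟩
        inv_mem' := fun {a} ha => ⟨inv_mem ha.1, by rw [inv_pow, ha.2, inv_one]⟩ }
    haveI : W.Normal := ⟨fun v hv g => ⟨(Vc_normal S).conj_mem v hv.1 g, by
      rw [conj_pow, hv.2]; group⟩⟩
    exact fun v hv => (Subgroup.normalClosure_le_normal (N := W)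
      (fun z hz => ⟨Subgroup.le_normalClosure hz, hel.2 z hz⟩) hv).2
  obtain ⟨ρV, ψV, hnat⟩ := exists_natural st (Vc S) ⊥ bot_le
    (Subgroup.commutator_le.2 fun a ha b hb => Subgroup.mem_bot.2
      (commutatorElement_eq_one_iff_commute.2 (hVc a ha b hb)))
    (fun v hv => Subgroup.mem_bot.2 (hvp v hv))
    (Subgroup.commutator_le.2 fun a ha b hb => Subgroup.mem_bot.2
      (commutatorElement_eq_one_iff_commute.2 (Subgroup.mem_centralizer_iff.1 (hVC hb) a ha)))
    (by
      refine Subgroup.commutator_le.2 fun a ha b hb => Subgroup.mem_bot.2 ?_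
      rw [commutatorElement_eq_one_iff_commute]
      have hle : ⁅(S : Subgroup G), Vc S⁆ ≤ Subgroup.centralizer ((S : Subgroup G) : Set G) :=
        Subgroup.commutator_le.2 fun s hs v hv => Subgroup.mem_centralizer_iff.2 fun t ht =>
          (hquad v hv (hvp v hv) s hs t ht).symm.eq
      exact Subgroup.mem_centralizer_iff.1 (hle hb) a ha)
    (L := Vc S ⊓ Subgroup.centralizer ((S : Subgroup G) : Set G)) bot_le inf_le_left
    (Subgroup.commutator_le.2 fun a ha b hb => Subgroup.mem_bot.2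
      (commutatorElement_eq_one_iff_commute.2
        (Subgroup.mem_centralizer_iff.1 (Subgroup.mem_inf.1 hb).2 a ha)))
    hcard (fun g hg => hVM (Subgroup.mem_centralizer_iff.2 fun v hv =>
      (commutatorElement_eq_one_iff_mul_comm.1 (Subgroup.mem_bot.1 (hg v hv))).symm))
  exact ⟨M, π, ρV, ψV, st, hinv, hnat, hvp⟩

namespace Base

variable {S : Sylow p G} {M : Subgroup G} {π : G →* Matrix.ProjectiveSpecialLinearGroup (Fin 2) F}
variable {ρV : G →* SL(2, F)} {ψV : G → Fin 2 → F} (b : Base S M π ρV ψV)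
include b

theorem Z_le_V : Zc S ≤ Vc S := Subgroup.le_normalClosure

theorem Z_le_S : Zc S ≤ (S : Subgroup G) := inf_le_left

theorem V_le_Q : Vc S ≤ Cfsg.pCore p G := by
  haveI := Fitting.pCore_normal (G := G) p
  exact Subgroup.normalClosure_le_normal fun z hz =>
    b.st.self (Subgroup.mem_centralizer_iff.2 fun x hx =>
      Subgroup.mem_centralizer_iff.1 (Subgroup.mem_inf.1 hz).2 x (pCore_le S hx))

theorem V_le_S : Vc S ≤ (S : Subgroup G) := b.V_le_Q.trans (pCore_le S)

theorem Q_comm_V : ⁅Cfsg.pCore p G, Vc S⁆ = ⊥ := by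
  refine le_bot_iff.1 (Subgroup.commutator_le.2 fun x hx v hv => ?_)
  exact (b.nat.ker x).1 ((b.nat.inf x (pCore_le S hx)).2 hx) v hv

theorem commute_Q {x v : G} (hx : x ∈ Cfsg.pCore p G) (hv : v ∈ Vc S) : Commute x v :=
  commutatorElement_eq_one_iff_commute.1
    (Subgroup.mem_bot.1 (b.Q_comm_V.le (Subgroup.commutator_mem_commutator hx hv)))

theorem commute_V {x v : G} (hx : x ∈ Vc S) (hv : v ∈ Vc S) : Commute x v := b.commute_Q (b.V_le_Q hx) hv

theorem centralizer_le_M : Subgroup.centralizer (Vc S : Set G) ≤ M := fun g hg => by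
  rw [b.nat.borel, (b.nat.ker g).2 fun v hv => Subgroup.mem_bot.2
    (commutatorElement_eq_one_iff_mul_comm.2 (Subgroup.mem_centralizer_iff.1 hg v hv).symm)]
  simp

theorem centralizer_inf_S : Subgroup.centralizer (Vc S : Set G) ⊓ (S : Subgroup G) ≤ Cfsg.pCore p G :=
  fun s hs => (b.nat.inf s hs.2).1 ((b.nat.ker s).2 fun v hv => Subgroup.mem_bot.2
    (commutatorElement_eq_one_iff_mul_comm.2 (Subgroup.mem_centralizer_iff.1 hs.1 v hv).symm))

theorem zero_iff {v : G} (hv : v ∈ Vc S) : ψV v = 0 ↔ v ∈ Subgroup.center G := by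
  rw [b.nat.zero v hv, Subgroup.mem_center_iff]
  simp only [Subgroup.mem_bot, commutatorElement_eq_one_iff_mul_comm]

theorem line_iff {v : G} (hv : v ∈ Vc S) : ψV v 1 = 0 ↔ v ∈ Zc S := by
  rw [← b.nat.line v hv, Zc, Subgroup.mem_inf, and_iff_right (b.V_le_S hv), Subgroup.mem_centralizer_iff]
  simp only [Subgroup.mem_bot, commutatorElement_eq_one_iff_mul_comm]
  rfl

/-- The fixed points of an element outside the core. -/
theorem fixed {s v : G} (hs : s ∈ (S : Subgroup G)) (hsQ : s ∉ Cfsg.pCore p G) (hv : v ∈ Vc S)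
    (h : ψV ⁅s, v⁆ = 0) : v ∈ Zc S := by
  obtain ⟨c, hc⟩ := b.nat.upper s hs
  have hc0 : c ≠ 0 := fun e => hsQ ((b.nat.inf s hs).1 (by rw [hc, e]; exact map_one _))
  rw [b.nat.map_comm_upper hc hv] at h
  have h1 := congrFun h 0
  simp at h1
  exact (b.line_iff hv).1 (h1.resolve_left hc0)

theorem fixed_of_commute {s v : G} (hs : s ∈ (S : Subgroup G)) (hsQ : s ∉ Cfsg.pCore p G)
    (hv : v ∈ Vc S) (h : Commute s v) : v ∈ Zc S :=
  b.fixed hs hsQ hv (by rw [commutatorElement_eq_one_iff_commute.2 h]; exact b.nat.map_one)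

theorem card_V : Nat.card (Vc S) = Nat.card F * Nat.card (Zc S) := by
  let f : Vc S →* Multiplicative F :=
    { toFun := fun v => Multiplicative.ofAdd (ψV v 1)
      map_one' := by rw [OneMemClass.coe_one, b.nat.map_one]; rfl
      map_mul' := fun v w => by
        rw [Subgroup.coe_mul, b.nat.add _ v.2 _ w.2]
        rfl }
  have hf : Function.Surjective f := fun z => by
    obtain ⟨v, hv, e⟩ := b.nat.onto ![0, z.toAdd]
    exact ⟨⟨v, hv⟩, show Multiplicative.ofAdd (ψV v 1) = z by rw [e]; rfl⟩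
  have hk : f.ker = (Zc S).subgroupOf (Vc S) := by
    ext ⟨v, hv⟩
    rw [MonoidHom.mem_ker, Subgroup.mem_subgroupOf]
    show Multiplicative.ofAdd (ψV v 1) = 1 ↔ v ∈ Zc S
    rw [← b.line_iff hv]
    exact Multiplicative.ofAdd.injective.eq_iff' rfl
  rw [Subgroup.card_eq_card_quotient_mul_card_subgroup f.ker,
    Nat.card_congr (QuotientGroup.quotientKerEquivOfSurjective f hf).toEquiv, hk,
    Nat.card_congr (Subgroup.subgroupOfEquivOfLe b.Z_le_V).toEquiv]
  congr 1

theorem R_le_Z : Rc S ≤ Zc S := by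
  rw [Rc, Subgroup.commutator_comm]
  refine Subgroup.commutator_le.2 fun s hs v hv => ?_
  obtain ⟨c, hc⟩ := b.nat.upper s hs
  refine (b.line_iff (b.nat.map_comm s hv).1).1 ?_
  rw [b.nat.map_comm_upper hc hv]
  rfl

theorem exists_R_onto (z : F) : ∃ r ∈ Rc S, ψV r = ![z, 0] := by
  obtain ⟨s, hs, hc⟩ := b.nat.upper_onto z
  obtain ⟨v, hv, e⟩ := b.nat.onto ![0, 1]
  refine ⟨⁅s, v⁆, ?_, ?_⟩
  · rw [Rc, Subgroup.commutator_comm]
    exact Subgroup.commutator_mem_commutator hs hv
  · rw [b.nat.map_comm_upper hc hv, e]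
    simp

theorem R_not_le_center : ¬ Rc S ≤ Subgroup.center G := fun h => by
  obtain ⟨r, hr, e⟩ := b.exists_R_onto 1
  rw [(b.zero_iff ((b.R_le_Z.trans b.Z_le_V) hr)).2 (h hr)] at e
  simpa using congrFun e 0

theorem S_normalizes_R : (S : Subgroup G) ≤ Subgroup.normalizer (Rc S : Set G) := fun s hs => by
  refine Subgroup.mem_normalizer_fintype fun r hr => ?_
  rw [Subgroup.mem_centralizer_iff.1 (Subgroup.mem_inf.1 (b.R_le_Z hr)).2 s hs, mul_inv_cancel_right]
  exact hr

theorem Q_normal : (Cfsg.pCore p G).Normal := Fitting.pCore_normal p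

theorem exists_not_mem_M : ∃ g, g ∉ M := by
  by_contra h
  push Not at h
  exact b.st.ne (eq_top_iff.2 fun x _ => h x)

end Base

end CfsgLib.PushRankOne
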