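import Cfsg.Agent.Lib.PushRankOne.Common

/-!
The second case: all images of the module under automorphisms of the Sylow subgroup lie in the core.
The second module generated by the image of the first one.
-/

set_option autoImplicit false
set_option linter.unusedSectionVars false

namespace CfsgLib.PushRankOne

open CfsgLib.SL2 CfsgLib.SL2Module CfsgLib.SL2Module.Baumann
open scoped MatrixGroups commutatorElement

variable {G : Type*} [Group G] [Finite G] {p : ℕ} [hp : Fact p.Prime]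
variable {F : Type} [Field F] [Fintype F] [CharP F p]
variable {S : Sylow p G} {M : Subgroup G} {π : G →* Matrix.ProjectiveSpecialLinearGroup (Fin 2) F}
variable {ρV : G →* SL(2, F)} {ψV : G → Fin 2 → F}

/-- The second module. -/
def Yc (S : Sylow p G) (α : MulAut (S : Subgroup G)) : Subgroup G :=
  Subgroup.normalClosure (act α (Vc S) : Set G) ⊔ Vc S

instance Yc_normal (S : Sylow p G) (α : MulAut (S : Subgroup G)) : (Yc S α).Normal :=
  Subgroup.sup_normal _ _

/-- The part of the second module inside the other core. -/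
def Ec (S : Sylow p G) (α : MulAut (S : Subgroup G)) : Subgroup G :=
  Yc S α ⊓ act α⁻¹ (Cfsg.pCore p G)

/-- The commutator part of the second module. -/
def Tc (S : Sylow p G) (α : MulAut (S : Subgroup G)) : Subgroup G :=
  ⁅Yc S α, (S : Subgroup G)⁆ ⊔ Zc S

local notation "Q" => Cfsg.pCore p G

/-- The hypotheses of the second case. -/
structure TwoHyp (S : Sylow p G) (M : Subgroup G) (π : G →* Matrix.ProjectiveSpecialLinearGroup (Fin 2) F)
    (ρV : G →* SL(2, F)) (ψV : G → Fin 2 → F) (α : MulAut (S : Subgroup G)) : Prop where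
  base : Base S M π ρV ψV
  allQ : ∀ β : MulAut (S : Subgroup G), act β (Vc S) ≤ Q
  good : ¬ (act α (Vc S) ⊔ Vc S).Normal
  central : act α (Rc S) ≤ Subgroup.center G
  central' : act α⁻¹ (Rc S) ≤ Subgroup.center G
  full : ∀ g, g ∉ M → act α⁻¹ (cj g (act α (Vc S))) ⊔ Q = (S : Subgroup G)

namespace TwoHyp

variable {α : MulAut (S : Subgroup G)} (h : TwoHyp S M π ρV ψV α)
include h

theorem U_le_Q : act α (Vc S) ≤ Q := h.allQ α

theorem U_le_Y : act α (Vc S) ≤ Yc S α := Subgroup.le_normalClosure.trans le_sup_left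

theorem V_le_Y : Vc S ≤ Yc S α := le_sup_right

theorem Y_le_Q : Yc S α ≤ Q := by
  haveI := h.base.Q_normal
  exact sup_le (Subgroup.normalClosure_le_normal h.U_le_Q) h.base.V_le_Q

theorem Y_le_S : Yc S α ≤ (S : Subgroup G) := h.Y_le_Q.trans (pCore_le S)

theorem cj_U_le (g : G) : cj g (act α (Vc S)) ≤ Q := by
  haveI := h.base.Q_normal
  exact (cj_mono g h.U_le_Q).trans (cj_eq_of_normal g Q).le

theorem cj_U_le_Y (g : G) : cj g (act α (Vc S)) ≤ Yc S α :=
  (cj_mono g h.U_le_Y).trans (cj_eq_of_normal g _).le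

theorem V_le_aQ : Vc S ≤ act α Q := by
  rw [← inv_inv α, ← act_le_comm α⁻¹ h.base.V_le_S (pCore_le S)]
  exact h.allQ α⁻¹

theorem U_le_aQ : act α (Vc S) ≤ act α⁻¹ Q := by
  rw [← act_le_comm α (act_le _ _) (pCore_le S), act_act]
  exact h.allQ _

theorem R_le_Z : act α (Rc S) ≤ Zc S := h.base.act_R_le_Z α

theorem R_le_V : act α (Rc S) ≤ Vc S := h.R_le_Z.trans h.base.Z_le_V

theorem R_normal : (act α (Rc S)).Normal := normal_of_le_center h.central

theorem comm_Q_Y : ⁅Q, Yc S α⁆ ≤ act α (Rc S) := by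
  haveI := h.base.Q_normal
  haveI := h.R_normal
  refine comm_sup_le_normal ?_ ?_
  · rw [Subgroup.commutator_comm]
    refine normalClosure_comm_le ((Subgroup.commutator_mono le_rfl (pCore_le S)).trans ?_)
    rw [h.base.comm_act_V α]
  · rw [h.base.Q_comm_V]
    exact bot_le

theorem comm_Y_Y : ⁅Yc S α, Yc S α⁆ ≤ act α (Rc S) :=
  (Subgroup.commutator_mono h.Y_le_Q le_rfl).trans h.comm_Q_Y

theorem R_pow {r : G} (hr : r ∈ act α (Rc S)) : r ^ p = 1 := h.base.vp r (h.R_le_V hr)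

theorem mul_pow_Y {a c : G} (ha : a ∈ Yc S α) (hc : c ∈ Yc S α) :
    (a * c) ^ p = ⁅c, a⁆ ^ p.choose 2 * a ^ p * c ^ p := by
  have h1 : ⁅c, a⁆ ∈ Subgroup.center G :=
    h.central (h.comm_Y_Y (Subgroup.commutator_mem_commutator hc ha))
  exact mul_pow_class_two a c (Subgroup.mem_center_iff.1 h1 a).symm (Subgroup.mem_center_iff.1 h1 c).symm p

theorem pow_Y {y : G} (hy : y ∈ Yc S α) : y ^ p ∈ act α (Rc S) := by
  haveI := h.R_normal
  let W : Subgroup G :=
    { carrier := {a | a ∈ Yc S α ∧ a ^ p ∈ act α (Rc S)}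
      one_mem' := ⟨one_mem _, by rw [one_pow]; exact one_mem _⟩
      mul_mem' := fun {a c} ha hc => ⟨mul_mem ha.1 hc.1, by
        rw [h.mul_pow_Y ha.1 hc.1]
        exact mul_mem (mul_mem (pow_mem (h.comm_Y_Y (Subgroup.commutator_mem_commutator hc.1 ha.1)) _) ha.2)
          hc.2⟩
      inv_mem' := fun {a} ha => ⟨inv_mem ha.1, by rw [inv_pow]; exact inv_mem ha.2⟩ }
  haveI : W.Normal := ⟨fun a ha g => ⟨(Yc_normal S α).conj_mem a ha.1 g, by
    rw [conj_pow]
    exact h.R_normal.conj_mem _ ha.2 g⟩⟩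
  have hle : Yc S α ≤ W := sup_le (Subgroup.normalClosure_le_normal fun u hu =>
      ⟨h.U_le_Y hu, by rw [h.base.act_V_pow α u hu]; exact one_mem _⟩)
    fun v hv => ⟨h.V_le_Y hv, by rw [h.base.vp v hv]; exact one_mem _⟩
  exact (hle hy).2

theorem E_le_Y : Ec S α ≤ Yc S α := inf_le_left

theorem E_le_S : Ec S α ≤ (S : Subgroup G) := h.E_le_Y.trans h.Y_le_S

theorem E_U'' (g : G) : ⁅Ec S α, act α⁻¹ (cj g (act α (Vc S)))⁆ ≤ Rc S := by
  have h1 : act α ⁅Ec S α, act α⁻¹ (cj g (act α (Vc S)))⁆ ≤ act α (Rc S) := by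
    rw [act_comm α h.E_le_S (act_le _ _), act_act_inv α ((h.cj_U_le g).trans (pCore_le S))]
    refine (Subgroup.commutator_mono ?_ (h.cj_U_le_Y g)).trans h.comm_Q_Y
    rw [act_le_comm α h.E_le_S (pCore_le S)]
    exact inf_le_right
  exact (act_le_iff α ((Subgroup.commutator_mono h.E_le_S (act_le _ _)).trans (Subgroup.commutator_le_self _))
    (h.base.R_le_Z.trans h.base.Z_le_S)).1 h1

theorem RR_le_Z : Rc S ⊔ act α (Rc S) ≤ Zc S := sup_le h.base.R_le_Z h.R_le_Z

theorem S_normalizes_RR :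
    (S : Subgroup G) ≤ Subgroup.normalizer ((Rc S ⊔ act α (Rc S) : Subgroup G) : Set G) := fun s hs =>
  Subgroup.mem_normalizer_fintype fun r hr => by
    rw [← (h.base.Z_commute (h.RR_le_Z hr) hs).eq, mul_inv_cancel_right]
    exact hr

theorem comm_E_S : ⁅Ec S α, (S : Subgroup G)⁆ ≤ Rc S ⊔ act α (Rc S) := by
  obtain ⟨g, hg⟩ := h.base.exists_not_mem_M
  conv_lhs => rw [← h.full g hg]
  refine comm_sup_le ((act_le _ _).trans h.S_normalizes_RR) ((pCore_le S).trans h.S_normalizes_RR)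
    ((h.E_U'' g).trans le_sup_left) ?_
  rw [Subgroup.commutator_comm]
  exact (Subgroup.commutator_mono le_rfl h.E_le_Y).trans (h.comm_Q_Y.trans le_sup_right)

theorem comm_E_S_Z : ⁅Ec S α, (S : Subgroup G)⁆ ≤ Zc S := h.comm_E_S.trans h.RR_le_Z

theorem comm_Y_S : ⁅Yc S α, (S : Subgroup G)⁆ ≤ Ec S α := by
  refine le_inf (Subgroup.commutator_le_left _ _) ?_
  rw [← act_le_comm α ((Subgroup.commutator_le_left _ _).trans h.Y_le_S) (pCore_le S),
    act_comm α h.Y_le_S le_rfl, act_self]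
  exact (Subgroup.commutator_mono (act_le _ _) le_rfl).trans (commutator_le_pCore h.base.st)

theorem V_le_aQ' : Vc S ≤ act α⁻¹ Q := by
  rw [← act_le_comm α h.base.V_le_S (pCore_le S)]
  exact h.allQ α

theorem V_le_E : Vc S ≤ Ec S α := le_inf h.V_le_Y h.V_le_aQ'

theorem card_E : Nat.card (Yc S α) * Nat.card Q ≤ Nat.card (S : Subgroup G) * Nat.card (Ec S α) := by
  have h1 := CfsgLib.Offender.Timmesfeld.card_mul_card_le (Yc S α) (act α⁻¹ Q)
  rw [card_act α⁻¹ (pCore_le S)] at h1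
  exact h1.trans (Nat.mul_le_mul_right _ (Subgroup.card_le_of_le (sup_le h.Y_le_S (act_le _ _))))

theorem exists_natY : ∃ (ρY : G →* SL(2, F)) (ψY : G → Fin 2 → F),
    Natural S M (Yc S α) (Vc S) ρY ψY := by
  refine exists_natural h.base.st (Yc S α) (Vc S) h.V_le_Y (h.comm_Y_Y.trans h.R_le_V)
    (fun y hy => h.R_le_V (h.pow_Y hy)) (h.comm_Q_Y.trans h.R_le_V) ?_ (L := Ec S α) h.V_le_E h.E_le_Y ?_
    h.card_E ?_
  · rw [Subgroup.commutator_comm (S : Subgroup G) (Yc S α), Subgroup.commutator_comm]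
    exact (Subgroup.commutator_mono h.comm_Y_S le_rfl).trans (h.comm_E_S_Z.trans h.base.Z_le_V)
  · rw [Subgroup.commutator_comm]
    exact h.comm_E_S_Z.trans h.base.Z_le_V
  · intro g hg
    by_contra hgM
    -- a conjugate of the image of the module would lie in the other core
    have hle : cj g (act α (Vc S)) ≤ act α Q := by
      rintro _ ⟨u, hu, rfl⟩
      show g * u * g⁻¹ ∈ act α Q
      rw [show g * u * g⁻¹ = ⁅g, u⁆ * u by simp only [commutatorElement_def]; group]
      exact mul_mem (h.V_le_aQ (hg u (h.U_le_Y hu))) (act_mono α h.base.V_le_Q hu)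
    have hle' := (act_le_comm α⁻¹ ((h.cj_U_le g).trans (pCore_le S)) (pCore_le S)).2 (by
      rw [inv_inv]; exact hle)
    have h1 := h.full g hgM
    rw [sup_eq_right.2 hle'] at h1
    exact not_le_pCore h.base.st h1.ge

end TwoHyp

/-- The second case, with the second natural module. -/
structure Two (S : Sylow p G) (M : Subgroup G) (π : G →* Matrix.ProjectiveSpecialLinearGroup (Fin 2) F)
    (ρV : G →* SL(2, F)) (ψV : G → Fin 2 → F) (α : MulAut (S : Subgroup G)) (ρY : G →* SL(2, F))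
    (ψY : G → Fin 2 → F) : Prop where
  hyp : TwoHyp S M π ρV ψV α
  nat : Natural S M (Yc S α) (Vc S) ρY ψY

namespace Two

variable {α : MulAut (S : Subgroup G)} {ρY : G →* SL(2, F)} {ψY : G → Fin 2 → F}
variable (h : Two S M π ρV ψV α ρY ψY)
include h

theorem E_zero {a : G} (ha : a ∈ Ec S α) : ψY a 1 = 0 :=
  (h.nat.line a (h.hyp.E_le_Y ha)).1 fun s hs =>
    h.hyp.base.Z_le_V (h.hyp.comm_E_S_Z (by
      rw [Subgroup.commutator_comm]
      exact Subgroup.commutator_mem_commutator hs ha))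

theorem mem_E {a : G} (ha : a ∈ Yc S α) (h0 : ψY a 1 = 0) : a ∈ Ec S α := by
  classical
  let f : Yc S α →* Multiplicative F :=
    { toFun := fun v => Multiplicative.ofAdd (ψY v 1)
      map_one' := by rw [OneMemClass.coe_one, h.nat.map_one]; rfl
      map_mul' := fun v w => by
        rw [Subgroup.coe_mul, h.nat.add _ v.2 _ w.2]
        rfl }
  have hf : Function.Surjective f := fun z => by
    obtain ⟨v, hv, e⟩ := h.nat.onto ![0, z.toAdd]
    exact ⟨⟨v, hv⟩, show Multiplicative.ofAdd (ψY v 1) = z by rw [e]; rfl⟩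
  have hle : (Ec S α).subgroupOf (Yc S α) ≤ f.ker := fun x hx => by
    show Multiplicative.ofAdd (ψY x 1) = 1
    rw [show ψY (x : G) 1 = 0 from h.E_zero hx]
    rfl
  have h1 := Subgroup.card_eq_card_quotient_mul_card_subgroup f.ker
  rw [Nat.card_congr (QuotientGroup.quotientKerEquivOfSurjective f hf).toEquiv,
    Nat.card_congr Multiplicative.toAdd] at h1
  have h2 := h.hyp.card_E
  rw [card_S h.hyp.base.st, h1, mul_assoc, mul_assoc, mul_comm (Nat.card Q),
    ← Nat.card_congr (Subgroup.subgroupOfEquivOfLe h.hyp.E_le_Y).toEquiv] at h2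
  have h3 : (Ec S α).subgroupOf (Yc S α) = f.ker := Subgroup.eq_of_le_of_card_ge hle
    (Nat.le_of_mul_le_mul_right (Nat.le_of_mul_le_mul_left h2 Nat.card_pos) Nat.card_pos)
  have h4 : (⟨a, ha⟩ : Yc S α) ∈ f.ker := by
    show Multiplicative.ofAdd (ψY a 1) = 1
    rw [h0]
    rfl
  rwa [← h3, Subgroup.mem_subgroupOf] at h4

theorem T_le_E : Tc S α ≤ Ec S α :=
  sup_le h.hyp.comm_Y_S (h.hyp.base.Z_le_V.trans h.hyp.V_le_E)

theorem T_le_Y : Tc S α ≤ Yc S α := h.T_le_E.trans h.hyp.E_le_Y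

theorem T_le_S : Tc S α ≤ (S : Subgroup G) := h.T_le_Y.trans h.hyp.Y_le_S

theorem Z_le_T : Zc S ≤ Tc S α := le_sup_right

theorem comm_T_S : ⁅Tc S α, (S : Subgroup G)⁆ ≤ Zc S :=
  (Subgroup.commutator_mono h.T_le_E le_rfl).trans h.hyp.comm_E_S_Z

theorem S_normalizes_T : (S : Subgroup G) ≤ Subgroup.normalizer ((Tc S α : Subgroup G) : Set G) :=
  fun s hs => Subgroup.mem_normalizer_fintype fun t ht => by
    show s * t * s⁻¹ ∈ Tc S α
    rw [show s * t * s⁻¹ = ⁅t, s⁆⁻¹ * t by simp only [commutatorElement_def]; group]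
    exact mul_mem (inv_mem (h.Z_le_T (h.comm_T_S (Subgroup.commutator_mem_commutator ht hs)))) ht

theorem P_sup_Q : act α⁻¹ (Yc S α) ⊔ Q = (S : Subgroup G) := by
  obtain ⟨g, hg⟩ := h.hyp.base.exists_not_mem_M
  refine le_antisymm (sup_le (act_le _ _) (pCore_le S)) ?_
  conv_lhs => rw [← h.hyp.full g hg]
  exact sup_le_sup_right (act_mono _ (h.hyp.cj_U_le_Y g)) _

theorem Q_comm_Y_le_T : ⁅Q, Yc S α⁆ ≤ Tc S α := h.hyp.comm_Q_Y.trans (h.hyp.R_le_Z.trans h.Z_le_T)

theorem act_T : act α (Tc S α) = Tc S α := by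
  have hYS : ⁅Yc S α, (S : Subgroup G)⁆ ≤ ⁅Yc S α, act α⁻¹ (Yc S α)⁆ ⊔ Zc S := by
    have hYn : (S : Subgroup G) ≤ Subgroup.normalizer (Yc S α : Set G) :=
      le_top.trans (Subgroup.normalizer_eq_top (H := Yc S α)).ge
    have hn : (S : Subgroup G) ≤ Subgroup.normalizer
        ((⁅Yc S α, act α⁻¹ (Yc S α)⁆ ⊔ Zc S : Subgroup G) : Set G) :=
      LocalCGT.le_normalizer_sup (Coprime.le_normalizer_commutator hYn (le_normalizer_act α⁻¹ hYn))
        h.hyp.base.S_le_normalizer_Z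
    conv_lhs => rw [← h.P_sup_Q]
    refine comm_sup_le ((act_le _ _).trans hn) ((pCore_le S).trans hn) le_sup_left ?_
    rw [Subgroup.commutator_comm]
    exact h.hyp.comm_Q_Y.trans (h.hyp.R_le_Z.trans le_sup_right)
  have hle : act α (Tc S α) ≤ Tc S α := by
    rw [Tc, act_sup α ((Subgroup.commutator_le_left _ _).trans h.hyp.Y_le_S) h.hyp.base.Z_le_S, act_Zc]
    refine sup_le ((act_mono α hYS).trans ?_) le_sup_right
    rw [act_sup α ((Subgroup.commutator_mono h.hyp.Y_le_S (act_le _ _)).trans (Subgroup.commutator_le_self _))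
      h.hyp.base.Z_le_S, act_Zc, act_comm α h.hyp.Y_le_S (act_le _ _), act_act_inv α h.hyp.Y_le_S]
    refine sup_le ?_ le_sup_right
    rw [Subgroup.commutator_comm]
    exact (Subgroup.commutator_mono le_rfl (act_le _ _)).trans le_sup_left
  exact Subgroup.eq_of_le_of_card_ge hle (card_act α h.T_le_S).ge

theorem act_T' : act α⁻¹ (Tc S α) = Tc S α := by
  conv_lhs => rw [← h.act_T]
  exact act_inv_act α h.T_le_S

theorem comm_Q_P : ⁅Q, act α⁻¹ (Yc S α)⁆ ≤ Tc S α := by
  rw [← h.act_T']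
  have h1 : ⁅Q, act α⁻¹ (Yc S α)⁆ ≤ (S : Subgroup G) :=
    (Subgroup.commutator_mono (pCore_le S) (act_le _ _)).trans (Subgroup.commutator_le_self _)
  rw [← act_le_comm α h1 h.T_le_S, act_comm α (pCore_le S) (act_le _ _), act_act_inv α h.hyp.Y_le_S,
    Subgroup.commutator_comm]
  exact (Subgroup.commutator_mono le_rfl (act_le _ _)).trans le_sup_left

theorem sup_top : Q ⊔ Subgroup.normalClosure (act α⁻¹ (Yc S α) : Set G) = ⊤ := by
  haveI : (Subgroup.normalClosure (act α⁻¹ (Yc S α) : Set G)).Normal := Subgroup.normalClosure_normal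
  exact h.hyp.base.sup_top (h.P_sup_Q.ge.trans
    (sup_le (Subgroup.le_normalClosure.trans le_sup_right) le_sup_left))

theorem comm_Q_L : ⁅Q, Subgroup.normalClosure (act α⁻¹ (Yc S α) : Set G)⁆ ≤ Yc S α := by
  haveI := h.hyp.base.Q_normal
  rw [Subgroup.commutator_comm]
  refine normalClosure_comm_le ?_
  rw [Subgroup.commutator_comm]
  exact h.comm_Q_P.trans h.T_le_Y

theorem ker_inf_le {g : G} (hV : ρV g = 1) (hY : ρY g = 1) : g ∈ Q := by
  haveI := h.hyp.base.Q_normal
  set L := Subgroup.normalClosure (act α⁻¹ (Yc S α) : Set G)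
  haveI : L.Normal := Subgroup.normalClosure_normal
  have hg' : g ∈ ((Q ⊔ L : Subgroup G) : Set G) := by rw [h.sup_top]; trivial
  rw [Subgroup.normal_mul] at hg'
  obtain ⟨x, hx', l, hl, rfl⟩ := hg'
  refine mul_mem hx' (?_ : l ∈ Q)
  have hD : ρV.ker ⊓ ρY.ker ⊓ L ≤ Q := by
    refine le_pCore_of_stab h.hyp.base.st.self inferInstance h.hyp.Y_le_Q h.hyp.base.V_le_Q ?_ ?_ ?_
    · refine (Subgroup.commutator_mono inf_le_right le_rfl).trans ?_
      rw [Subgroup.commutator_comm]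
      exact h.comm_Q_L
    · exact Subgroup.commutator_le.2 fun d hd v hv => (h.nat.ker d).1 hd.1.2 v hv
    · exact le_bot_iff.1 (Subgroup.commutator_le.2 fun d hd v hv => (h.hyp.base.nat.ker d).1 hd.1.1 v hv)
  have hxV := (h.hyp.base.nat.inf x (pCore_le S hx')).2 hx'
  have hxY := (h.nat.inf x (pCore_le S hx')).2 hx'
  rw [map_mul, hxV, one_mul] at hV
  rw [map_mul, hxY, one_mul] at hY
  exact hD ⟨⟨hV, hY⟩, hl⟩

/-- An element of the image of the module fixed modulo the first module by everything. -/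
theorem fixed_U {n : G} (hn : n ∈ act α (Vc S)) (hfix : ∀ g : G, ⁅g, n⁆ ∈ Vc S) : n ∈ Zc S := by
  obtain ⟨g, hg⟩ := h.hyp.base.exists_not_mem_M
  obtain ⟨v, hv, rfl⟩ := mem_act.1 hn
  obtain ⟨x, hx, hxQ⟩ : ∃ x ∈ act α⁻¹ (cj g (act α (Vc S))), x ∉ Q := by
    by_contra hc
    push Not at hc
    exact not_le_pCore h.hyp.base.st ((h.hyp.full g hg).ge.trans (sup_le hc le_rfl))
  obtain ⟨k, hk, rfl⟩ := mem_act.1 hx
  have hk' := hk
  rw [mem_cj] at hk'
  set u := g⁻¹ * (k : G) * g with hu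
  set n : G := ((α v : (S : Subgroup G)) : G) with hn'
  -- `u` commutes with the conjugate of `n`
  have h1 : Commute u (g⁻¹ * n * g) := by
    rw [show g⁻¹ * n * g = ⁅g⁻¹, n⁆ * n by simp only [commutatorElement_def]; group]
    exact ((h.hyp.base.commute_Q (h.hyp.U_le_Q hk') (hfix g⁻¹))).mul_right
      (h.hyp.base.act_V_abelian α u hk' n hn)
  have h2 : Commute (k : G) n := by
    have h1' := h1.map (MulAut.conj g).toMonoidHom
    rw [hu] at h1'
    simpa [mul_assoc] using h1'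
  rw [← act_Zc S α]
  refine mem_act_of_mem α (h.hyp.base.fixed_of_commute (α⁻¹ k).2 hxQ hv ?_)
  have h3 : Commute k (α v) := Subtype.ext h2.eq
  have h4 := h3.map (α⁻¹ : MulAut (S : Subgroup G)).toMonoidHom
  simp only [MulEquiv.coe_toMonoidHom, MulAut.inv_apply_self] at h4
  exact congrArg Subtype.val h4.eq

end Two

end CfsgLib.PushRankOne
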