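import Cfsg.Agent.Lib.PushRankOne.Base
import Cfsg.Prelude.Def_LocalEven

/-!
Facts used in both cases: invariance of the lower central series and of the subgroups generated by
powers, the class two power formula, chief factors given by natural sections.
-/

set_option autoImplicit false
set_option linter.unusedSectionVars false

namespace CfsgLib.PushRankOne

open CfsgLib.SL2 CfsgLib.SL2Module CfsgLib.SL2Module.Baumann
open scoped MatrixGroups commutatorElement

section Gen

variable {G : Type*} [Group G]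

/-- The power formula in class two. -/
theorem mul_pow_class_two (w q : G) (hw : Commute ⁅q, w⁆ w) (hq : Commute ⁅q, w⁆ q) (n : ℕ) :
    (w * q) ^ n = ⁅q, w⁆ ^ n.choose 2 * w ^ n * q ^ n := by
  set c := ⁅q, w⁆ with hc
  have hqw : q * w = c * (w * q) := by rw [hc, commutatorElement_def]; group
  have hk : ∀ k : ℕ, q ^ k * w = c ^ k * (w * q ^ k) := by
    intro k
    induction k with
    | zero => simp
    | succ k ih =>
      calc q ^ (k + 1) * w = q ^ k * (q * w) := by rw [pow_succ, mul_assoc]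
        _ = q ^ k * (c * (w * q)) := by rw [hqw]
        _ = c * (q ^ k * w) * q := by
            rw [← mul_assoc, ← (hq.pow_right k).eq]
            group
        _ = c * (c ^ k * (w * q ^ k)) * q := by rw [ih]
        _ = c ^ (k + 1) * (w * q ^ (k + 1)) := by
            rw [pow_succ' c, pow_succ q]
            group
  induction n with
  | zero => simp
  | succ n ih =>
    calc (w * q) ^ (n + 1) = c ^ n.choose 2 * w ^ n * (q ^ n * w) * q := by
          rw [pow_succ, ih]; group
      _ = c ^ n.choose 2 * w ^ n * (c ^ n * (w * q ^ n)) * q := by rw [hk]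
      _ = c ^ n.choose 2 * (w ^ n * c ^ n) * w * q ^ n * q := by group
      _ = c ^ n.choose 2 * c ^ n * w ^ n * w * q ^ n * q := by
          rw [← ((hw.pow_left n).pow_right n).eq]; group
      _ = _ := by
          rw [Nat.choose_succ_succ', Nat.choose_one_right, pow_succ w, pow_succ q, pow_add,
            ← ((Commute.refl c).pow_pow _ _).eq]
          group

theorem act_lcs {S : Subgroup G} (α : MulAut S) :
    ∀ n : ℕ, act α (S.lowerCentralSeries n) = S.lowerCentralSeries n
  | 0 => act_self α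
  | n + 1 => by
    rw [Subgroup.lowerCentralSeries_succ, act_comm α (S.lowerCentralSeries_antitone (Nat.zero_le n)) le_rfl,
      act_lcs α n, act_self]

/-- A normal subgroup between the fixed points and a natural section. -/
theorem chief_of_between {U W : Subgroup G} (hU : U.Normal) (hW : W.Normal) (hlt : W < U)
    (h : ∀ N : Subgroup G, N.Normal → N ≤ U → N ≤ W ∨ U ≤ N ⊔ W) : Cfsg.IsChiefFactor U W := by
  refine ⟨hlt, hU, hW, fun N hN hWN hNU => ?_⟩
  rcases h N hN hNU with h' | h'
  · exact Or.inl (le_antisymm h' hWN)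
  · exact Or.inr (le_antisymm hNU (h'.trans (sup_le le_rfl hWN)))

end Gen

variable {G : Type*} [Group G] [Finite G] {p : ℕ} [hp : Fact p.Prime]
variable {F : Type} [Field F] [Fintype F] [CharP F p]
variable {S : Sylow p G} {M : Subgroup G} {π : G →* Matrix.ProjectiveSpecialLinearGroup (Fin 2) F}

section

variable {U N : Subgroup G} {ρ : G →* SL(2, F)} {ψ : G → Fin 2 → F}

/-- A normal subgroup of a natural section covers it or is fixed. -/
theorem Natural.cover [U.Normal] [N.Normal] (h : Natural S M U N ρ ψ) (H : Subgroup G) [H.Normal]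
    (hHU : H ≤ U) : H ≤ fixMod U N ∨ U ≤ H ⊔ fixMod U N := by
  rcases h.dichotomy H hHU with h0 | h0
  · exact Or.inl h0
  refine Or.inr fun u hu => ?_
  obtain ⟨a, ha, e⟩ := h0 (ψ u)
  rw [show u = a * (a⁻¹ * u) by group]
  refine mul_mem (Subgroup.mem_sup_left ha) (Subgroup.mem_sup_right ?_)
  rw [← h.mem_fix (mul_mem (inv_mem (hHU ha)) hu), h.add _ (inv_mem (hHU ha)) _ hu,
    h.map_inv (hHU ha), e, neg_add_cancel]

/-- The noncentral chief factor of a natural section. -/
theorem Natural.chief [hU : U.Normal] [hN : N.Normal] (h : Natural S M U N ρ ψ) (hNU : N ≤ U) :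
    Cfsg.IsChiefFactor U (fixMod U N) ∧ ¬ ⁅U, (⊤ : Subgroup G)⁆ ≤ fixMod U N := by
  obtain ⟨a, ha, hea⟩ := h.onto ![0, 1]
  obtain ⟨s, hs, hc⟩ := h.upper_onto 1
  have hc1 : ψ ⁅s, a⁆ = ![1, 0] := by rw [h.map_comm_upper hc ha, hea]; simp
  have hne : ¬ ⁅U, (⊤ : Subgroup G)⁆ ≤ fixMod U N := fun hle => by
    have h1 : ⁅s, a⁆ ∈ fixMod U N := hle (by
      rw [Subgroup.commutator_comm]
      exact Subgroup.commutator_mem_commutator (Subgroup.mem_top s) ha)
    rw [← h.mem_fix (h.map_comm s ha).1, hc1] at h1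
    simpa using congrFun h1 0
  refine ⟨chief_of_between hU inferInstance (lt_of_le_not_ge (fixMod_le U N) fun hle => hne ?_)
    (fun H hH hHU => h.cover H hHU), hne⟩
  exact (Subgroup.commutator_le_left U ⊤).trans hle

end

variable {ρV : G →* SL(2, F)} {ψV : G → Fin 2 → F}

namespace Base

variable (b : Base S M π ρV ψV)
include b

theorem lcs_eq_bot (n : ℕ) (h : ((S : Subgroup G).lowerCentralSeries n).Normal) :
    (S : Subgroup G).lowerCentralSeries n = ⊥ :=
  b.inv _ ((S : Subgroup G).lowerCentralSeries_antitone (Nat.zero_le n)) h fun α => (act_lcs α n).le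

theorem pow_eq_one (k : ℕ) (h : ∀ s ∈ (S : Subgroup G), ∃ q ∈ Cfsg.pCore p G, s ^ k = q ^ k) :
    ∀ s ∈ (S : Subgroup G), s ^ k = 1 := by
  haveI := b.Q_normal
  let W : Subgroup G := Subgroup.closure ((fun x => x ^ k) '' (Cfsg.pCore p G : Set G))
  have hWS : W ≤ (S : Subgroup G) := (Subgroup.closure_le _).2 (by
    rintro _ ⟨q, hq, rfl⟩
    exact pow_mem (pCore_le S hq) k)
  have hWn : W.Normal := ⟨fun x hx g => by
    have hle : W ≤ W.comap (MulAut.conj g).toMonoidHom := (Subgroup.closure_le _).2 (by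
      rintro _ ⟨q, hq, rfl⟩
      refine Subgroup.subset_closure ⟨g * q * g⁻¹, Subgroup.Normal.conj_mem inferInstance q hq g, ?_⟩
      show (g * q * g⁻¹) ^ k = g * q ^ k * g⁻¹
      rw [conj_pow])
    exact hle hx⟩
  have hbot := b.inv W hWS hWn fun α => by
    rw [act_le_comm α hWS hWS]
    refine (Subgroup.closure_le _).2 ?_
    rintro _ ⟨q, hq, rfl⟩
    refine mem_act.2 ⟨(α ⟨q, pCore_le S hq⟩) ^ k, ?_, ?_⟩
    · obtain ⟨q', hq', e⟩ := h _ (α ⟨q, pCore_le S hq⟩).2
      rw [SubmonoidClass.coe_pow, e]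
      exact Subgroup.subset_closure ⟨q', hq', rfl⟩
    · rw [map_pow, ← MulAut.mul_apply, inv_mul_cancel, MulAut.one_apply]
      rfl
  intro s hs
  obtain ⟨q, hq, e⟩ := h s hs
  rw [e]
  have h1 : q ^ k ∈ W := Subgroup.subset_closure ⟨q, hq, rfl⟩
  rwa [hbot, Subgroup.mem_bot] at h1

theorem sup_top {L : Subgroup G} [hL : L.Normal]
    (h : (S : Subgroup G) ≤ Cfsg.pCore p G ⊔ L) : Cfsg.pCore p G ⊔ L = ⊤ := by
  haveI := b.Q_normal
  rw [← top_le_iff, ← normalClosure_S b.st]
  exact Subgroup.normalClosure_le_normal h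

theorem Q_comm_fix : ⁅fixMod (Vc S) ⊥, (⊤ : Subgroup G)⁆ = ⊥ := by
  rw [Subgroup.commutator_comm]
  exact le_bot_iff.1 (comm_fixMod_le _ _ _)

theorem act_V_abelian (α : MulAut (S : Subgroup G)) :
    ∀ x ∈ act α (Vc S), ∀ y ∈ act α (Vc S), Commute x y := by
  intro x hx y hy
  obtain ⟨h, hh, rfl⟩ := mem_act.1 hx
  obtain ⟨k, hk, rfl⟩ := mem_act.1 hy
  have h1 : h * k = k * h := Subtype.ext (b.commute_V hh hk).eq
  exact congrArg Subtype.val (show α h * α k = α k * α h by rw [← map_mul, h1, map_mul])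

theorem act_V_pow (α : MulAut (S : Subgroup G)) : ∀ x ∈ act α (Vc S), x ^ p = 1 := by
  intro x hx
  obtain ⟨h, hh, rfl⟩ := mem_act.1 hx
  rw [← SubmonoidClass.coe_pow, ← map_pow, show h ^ p = 1 from Subtype.ext (b.vp h hh), map_one]
  rfl

theorem comm_act_V (α : MulAut (S : Subgroup G)) :
    ⁅act α (Vc S), (S : Subgroup G)⁆ = act α (Rc S) := by
  rw [Rc, act_comm α b.V_le_S le_rfl, act_self]

theorem act_R_le_Z (α : MulAut (S : Subgroup G)) : act α (Rc S) ≤ Zc S :=
  (act_mono α b.R_le_Z).trans (act_Zc_le S α)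

theorem Z_commute {z s : G} (hz : z ∈ Zc S) (hs : s ∈ (S : Subgroup G)) : Commute z s :=
  (Subgroup.mem_centralizer_iff.1 (Subgroup.mem_inf.1 hz).2 s hs).symm

theorem S_le_normalizer_Z : (S : Subgroup G) ≤ Subgroup.normalizer (Zc S : Set G) := fun s hs =>
  Subgroup.mem_normalizer_fintype fun z hz => by
    rw [← (b.Z_commute hz hs).eq, mul_inv_cancel_right]
    exact hz

theorem comm_Z_S : ⁅Zc S, (S : Subgroup G)⁆ = ⊥ :=
  le_bot_iff.1 (Subgroup.commutator_le.2 fun _ hz _ hs => Subgroup.mem_bot.2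
    (commutatorElement_eq_one_iff_commute.2 (b.Z_commute hz hs)))

end Base

end CfsgLib.PushRankOne
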