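import Cfsg.Agent.Lib.PushRankOne.QdSplit
import Cfsg.Agent.S2762
import Cfsg.Prelude.Def_TwoFusion

/-!
A maximal `p`-local subgroup which is not pushed up, `p ≥ 5`: the centralised `p`-part is abelian, and
the group is `qd × E`.
-/

set_option autoImplicit false
set_option linter.unusedSectionVars false
set_option linter.style.haveILetI false

namespace CfsgLib.PushRankOne

open CfsgLib.SL2 CfsgLib.SL2Module CfsgLib.SL2Module.Baumann
open scoped MatrixGroups commutatorElement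

section Split

variable {G : Type*} [Group G] [Finite G] {p : ℕ} [hp : Fact p.Prime]
variable {F : Type} [Field F] [Fintype F] [CharP F p]
variable {S : Sylow p G} {M : Subgroup G} {π : G →* Matrix.ProjectiveSpecialLinearGroup (Fin 2) F}
variable {ρV : G →* SL(2, F)} {ψV : G → Fin 2 → F}
variable {V₁ E K : Subgroup G} {t : G}

/-- The centre of the centralised part is central. -/
theorem QdData.mem_center (d : QdData S V₁ E K t ρV ψV) {z : G} (hz : z ∈ E)
    (hc : ∀ e ∈ E, Commute z e) : z ∈ Subgroup.center G := by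
  refine Subgroup.mem_center_iff.2 fun g => ?_
  obtain ⟨w, hw, x, hx, e, he, rfl⟩ := d.decompose g
  exact (((d.commV z hz w hw).mul_right (d.commK z hz x hx)).mul_right (hc e he)).eq.symm

/-- With an abelian centralised part the group is `qd × E`. -/
theorem QdData.iso (b : Base S M π ρV ψV) (d : QdData S V₁ E K t ρV ψV)
    (hE : ∀ a ∈ E, ∀ c ∈ E, Commute a c) :
    ∃ G₀ : Subgroup G, G₀ ⊓ E = ⊥ ∧ G₀ ⊔ E = ⊤ ∧ (∀ a ∈ G₀, ∀ c ∈ E, a * c = c * a) ∧
      Nonempty (↥G₀ ≃* ↥(Cfsg.qdOver F)) := by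
  classical
  have hQ1 : ∀ w ∈ V₁, ρV w = 1 := fun w hw =>
    (b.nat.ker w).2 fun u hu => Subgroup.mem_bot.2
      (commutatorElement_eq_one_iff_commute.2 (b.commute_V (d.V_le hw) hu))
  choose wv hwv ewv using d.w_onto
  choose kg hkg ekg using d.k_onto
  have hwu : ∀ a c, a ∈ V₁ → c ∈ V₁ → ψV a = ψV c → a = c := fun a c ha hc h =>
    mul_inv_eq_one.1 (d.w_inj _ (mul_mem ha (inv_mem hc))
      (by rw [b.nat.map_div (d.V_le ha) (d.V_le hc), h, sub_self]))
  have hku : ∀ a c, a ∈ K → c ∈ K → ρV a = ρV c → a = c := fun a c ha hc h =>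
    mul_inv_eq_one.1 (d.k_inj _ (mul_mem ha (inv_mem hc)) (by rw [map_mul, map_inv, h, mul_inv_cancel]))
  let vec : ↥(Cfsg.qdOver F) → Fin 2 → F := fun x => ![(x : SL(3, F)).1 0 2, (x : SL(3, F)).1 1 2]
  have hvec : ∀ g v, vec (Cfsg.Agent.S2762.el g v) = v := fun g v => by
    funext i
    fin_cases i <;> simp [vec, Cfsg.Agent.S2762.el_coe]
  let φ : ↥(Cfsg.qdOver F) →* G := MonoidHom.mk' (fun x => wv (vec x) * kg (Cfsg.Agent.S2762.pr x))
    (fun x y => by
      obtain ⟨g, v, rfl⟩ := Cfsg.Agent.S2762.el_surj x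
      obtain ⟨g', v', rfl⟩ := Cfsg.Agent.S2762.el_surj y
      rw [Cfsg.Agent.S2762.el_mul, hvec, hvec, hvec, Cfsg.Agent.S2762.pr_el,
        Cfsg.Agent.S2762.pr_el, Cfsg.Agent.S2762.pr_el]
      have h1 : kg g * wv v' * (kg g)⁻¹ ∈ V₁ := d.V_normal.conj_mem _ (hwv v') _
      have e1 : wv (v + g.1.mulVec v') = wv v * (kg g * wv v' * (kg g)⁻¹) := by
        refine hwu _ _ (hwv _) (mul_mem (hwv v) h1) ?_
        rw [ewv, b.nat.add _ (d.V_le (hwv v)) _ (d.V_le h1), b.nat.equiv _ _ (d.V_le (hwv v')), ewv,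
          ewv, ekg]
      have e2 : kg (g * g') = kg g * kg g' :=
        hku _ _ (hkg _) (mul_mem (hkg g) (hkg g')) (by rw [ekg, map_mul, ekg, ekg])
      rw [e1, e2]
      group)
  have hφ : ∀ g v, φ (Cfsg.Agent.S2762.el g v) = wv v * kg g := fun g v => by
    show wv (vec _) * kg (Cfsg.Agent.S2762.pr _) = _
    rw [hvec, Cfsg.Agent.S2762.pr_el]
  have huniq : ∀ g v, wv v * kg g ∈ E → g = 1 ∧ v = 0 := by
    intro g v h
    have hg : g = 1 := by
      have h1 : ρV (wv v * kg g) = 1 := (b.nat.inf _ (pCore_le S (d.E_le h))).2 (d.E_le h)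
      rwa [map_mul, hQ1 _ (hwv v), one_mul, ekg] at h1
    refine ⟨hg, ?_⟩
    have hk1 : kg g = 1 := d.k_inj _ (hkg g) (by rw [ekg, hg])
    rw [hk1, mul_one] at h
    have hw1 : wv v = 1 := Subgroup.mem_bot.1 (d.disjoint ▸ ⟨hwv v, h⟩)
    rw [← ewv v, hw1, b.nat.map_one]
  have hinj : Function.Injective φ := (injective_iff_map_eq_one φ).2 fun x hx => by
    obtain ⟨g, v, rfl⟩ := Cfsg.Agent.S2762.el_surj x
    rw [hφ] at hx
    obtain ⟨rfl, rfl⟩ := huniq g v (hx ▸ one_mem E)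
    exact Cfsg.Agent.S2762.el_one
  refine ⟨φ.range, ?_, ?_, ?_, ⟨(MonoidHom.ofInjective hinj).symm⟩⟩
  · rw [Subgroup.eq_bot_iff_forall]
    rintro _ ⟨⟨x, rfl⟩, h⟩
    obtain ⟨g, v, rfl⟩ := Cfsg.Agent.S2762.el_surj x
    rw [SetLike.mem_coe, hφ] at h
    obtain ⟨rfl, rfl⟩ := huniq g v h
    rw [Cfsg.Agent.S2762.el_one, map_one]
  · refine eq_top_iff.2 fun g _ => ?_
    obtain ⟨w, hw, x, hx, e, he, rfl⟩ := d.decompose g
    refine Subgroup.mul_mem_sup ⟨Cfsg.Agent.S2762.el (ρV x) (ψV w), ?_⟩ he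
    rw [hφ, hwu _ _ (hwv _) hw (ewv _), hku _ _ (hkg _) hx (ekg _)]
  · rintro _ ⟨x, rfl⟩ c hc
    exact (Subgroup.mem_center_iff.1 (d.mem_center hc fun e he => hE c hc e he) _)

end Split

variable {H : Type*} [Group H] [Finite H] {p : ℕ} [hp : Fact p.Prime]
variable {F : Type} [Field F] [Fintype F] [CharP F p]
variable {G : Subgroup H} {S : Sylow p G} {M : Subgroup G}
variable {π : G →* Matrix.ProjectiveSpecialLinearGroup (Fin 2) F}
variable {ρV : G →* SL(2, F)} {ψV : G → Fin 2 → F}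
variable {V₁ E K : Subgroup G} {t : G}

/-- In a maximal `p`-local subgroup which is not pushed up the centralised part is abelian. -/
theorem QdData.abelian (b : Base S M π ρV ψV) (d : QdData S V₁ E K t ρV ψV) (h5 : 5 ≤ p)
    (hmax : ∀ R : Subgroup H, IsPGroup p ↥R → R ≠ ⊥ → G ≤ Subgroup.normalizer (R : Set H) →
      Subgroup.normalizer (R : Set H) = G)
    (hN : ¬ Subgroup.normalizer (((S : Subgroup G).map G.subtype : Subgroup H) : Set H) ≤ G) :
    ∀ a ∈ E, ∀ c ∈ E, Commute a c := by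
  classical
  by_contra hE
  push Not at hE
  obtain ⟨e₀, he₀, c₀, hc₀, hne₀⟩ := hE
  haveI := b.Q_normal
  haveI := d.V_normal
  let W : Subgroup G := E ⊓ Subgroup.centralizer (E : Set G)
  have hWc : ∀ z ∈ W, z ∈ Subgroup.center G := fun z hz =>
    d.mem_center hz.1 fun e he => (Subgroup.mem_centralizer_iff.1 hz.2 e he).symm
  have hES : E ≤ (S : Subgroup G) := d.E_le.trans (pCore_le S)
  -- the normaliser of a subgroup of `W`
  have hnorm : ∀ z ∈ W, z ≠ 1 → Subgroup.normalizer ((Subgroup.zpowers (z : H)) : Set H) = G := by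
    intro z hz hz1
    refine hmax _ ?_ ?_ fun g hg => ?_
    · have h := (S.2.to_le (Subgroup.zpowers_le.2 (hES hz.1))).map G.subtype
      rwa [MonoidHom.map_zpowers] at h
    · rw [Ne, Subgroup.zpowers_eq_bot]
      exact fun h => hz1 (Subtype.ext h)
    · refine Subgroup.mem_normalizer_fintype fun x hx => ?_
      obtain ⟨i, rfl⟩ := Subgroup.mem_zpowers_iff.1 hx
      have hc : Commute g (z : H) :=
        congrArg Subtype.val (Subgroup.mem_center_iff.1 (hWc z hz) ⟨g, hg⟩)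
      rw [← (hc.zpow_right i).eq.symm.trans rfl, mul_inv_cancel_right]
      exact ⟨i, rfl⟩
  have hVne : ∃ v ∈ V₁, ψV v = ![1, 0] := d.w_onto _
  -- the normaliser of `G`
  have hnG : ∀ h : H, (∀ x : H, x ∈ G ↔ h * x * h⁻¹ ∈ G) → h ∈ G := by
    intro h hh
    set R := (Cfsg.pCore p G).map G.subtype with hR
    have hRp : IsPGroup p R := (Fitting.pCore_isPGroup p).map _
    have hRne : R ≠ ⊥ := by
      rw [hR, Ne, Subgroup.map_eq_bot_iff_of_injective _ G.subtype_injective]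
      intro hQ
      obtain ⟨v, hv, ev⟩ := hVne
      have : v = 1 := Subgroup.mem_bot.1 (hQ ▸ b.V_le_Q (d.V_le hv))
      rw [this, b.nat.map_one] at ev
      simpa using congrFun ev 0
    let a : G ≃* G :=
      { toFun := fun x => ⟨h * x * h⁻¹, (hh x).1 x.2⟩
        invFun := fun x => ⟨h⁻¹ * x * h, (hh _).2 (by
          rw [show h * (h⁻¹ * (x : H) * h) * h⁻¹ = x by group]; exact x.2)⟩
        left_inv := fun x => Subtype.ext (by show h⁻¹ * (h * (x : H) * h⁻¹) * h = x; group)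
        right_inv := fun x => Subtype.ext (by show h * (h⁻¹ * (x : H) * h) * h⁻¹ = x; group)
        map_mul' := fun x y => Subtype.ext (by
          show h * ((x : H) * y) * h⁻¹ = h * x * h⁻¹ * (h * y * h⁻¹); group) }
    have hQa : (Cfsg.pCore p G).map a.toMonoidHom ≤ Cfsg.pCore p G :=
      Fitting.le_pCore ((Fitting.pCore_normal p).map _ a.surjective) ((Fitting.pCore_isPGroup p).map _)
    have hRG : G ≤ Subgroup.normalizer (R : Set H) := fun g hg =>
      Subgroup.mem_normalizer_fintype fun x hx => by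
        obtain ⟨q, hq, rfl⟩ := hx
        exact ⟨⟨g, hg⟩ * q * ⟨g, hg⟩⁻¹, b.Q_normal.conj_mem q hq _, rfl⟩
    rw [← hmax R hRp hRne hRG]
    refine Subgroup.mem_normalizer_fintype fun x hx => ?_
    obtain ⟨q, hq, rfl⟩ := hx
    exact ⟨a q, hQa ⟨q, hq, rfl⟩, rfl⟩
  -- the trivial intersection property of `W`
  have hTI : ∀ h : H, ∀ z ∈ W, ∀ z' ∈ W, z ≠ 1 → h * (z : H) * h⁻¹ = (z' : H) → h ∈ G := by
    intro h z hz z' hz' hz1 e
    have hz'1 : z' ≠ 1 := fun h0 => hz1 (Subtype.ext (by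
      rw [h0, Subgroup.coe_one, mul_inv_eq_one] at e
      rwa [mul_eq_left, ← Subgroup.coe_one G] at e))
    refine hnG h fun x => ?_
    rw [← hnorm z hz hz1]
    conv_rhs => rw [hnorm z hz hz1, ← hnorm z' hz' hz'1]
    rw [← e, Subgroup.mem_normalizer_iff, Subgroup.mem_normalizer_iff]
    simp only [Subgroup.mem_zpowers_iff]
    have hi : ∀ i : ℤ, (h * (z : H) * h⁻¹) ^ i = h * (z : H) ^ i * h⁻¹ := fun i => conj_zpow
    constructor
    · intro hx y
      have h1 := hx (h⁻¹ * y * h)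
      constructor
      · rintro ⟨i, rfl⟩
        obtain ⟨j, hj⟩ := h1.1 ⟨i, by rw [hi]; group⟩
        exact ⟨j, by rw [hi, hj, hi]; group⟩
      · rintro ⟨i, hy⟩
        obtain ⟨j, hj⟩ := h1.2 ⟨i, by
          rw [hi] at hy
          calc (z : H) ^ i = h⁻¹ * (h * (z : H) ^ i * h⁻¹) * h := by group
            _ = _ := by rw [hy]; group⟩
        exact ⟨j, by rw [hi, hj]; group⟩
    · intro hx y
      have h1 := hx (h * y * h⁻¹)
      constructor
      · rintro ⟨i, rfl⟩
        obtain ⟨j, hj⟩ := h1.1 ⟨i, hi i⟩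
        refine ⟨j, ?_⟩
        rw [hi] at hj
        calc (z : H) ^ j = h⁻¹ * (h * (z : H) ^ j * h⁻¹) * h := by group
          _ = _ := by rw [hj]; group
      · rintro ⟨i, hy⟩
        obtain ⟨j, hj⟩ := h1.2 ⟨i, by rw [hi, hy]; group⟩
        refine ⟨j, ?_⟩
        rw [hi] at hj
        calc (z : H) ^ j = h⁻¹ * (h * (z : H) ^ j * h⁻¹) * h := by group
          _ = _ := by rw [hj]; group
  -- the centralised part
  have hEE : ∀ a ∈ E, ∀ s ∈ (S : Subgroup G), ⁅a, s⁆ ∈ W := by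
    intro a ha s hs
    obtain ⟨w, hw, x, hx, e, he, rfl⟩ := d.decompose s
    have e1 : ⁅a, w * x * e⁆ = ⁅a, e⁆ := by
      have hc : Commute a (w * x) := (d.commV a ha w hw).mul_right (d.commK a ha x hx)
      have hc' : Commute ⁅a, e⁆ (w * x) := by
        rw [commutatorElement_def]
        have hce : Commute e (w * x) := (d.commV e he w hw).mul_right (d.commK e he x hx)
        exact ((hc.mul_left hce).mul_left hc.inv_left).mul_left hce.inv_left
      rw [comm_mul_right, commutatorElement_eq_one_iff_commute.2 hc, one_mul, ← hc'.eq,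
        mul_inv_cancel_right]
    rw [e1]
    refine ⟨E.mul_mem (E.mul_mem (E.mul_mem ha he) (E.inv_mem ha)) (E.inv_mem he), ?_⟩
    exact Subgroup.mem_centralizer_iff.2 fun y hy =>
      (d.class_two a (hES ha) e (hES he) y (hES hy)).eq.symm
  -- the commutators of the unipotent part lie in a conjugate of `W`
  have hclaim : ∀ g : H, g ∈ Subgroup.normalizer (((S : Subgroup G).map G.subtype : Subgroup H) : Set H) →
      g ∉ G → ∀ z ∈ V₁, ψV z 1 = 0 → ∃ u ∈ W, g * (u : H) * g⁻¹ = (z : H) := by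
    intro g hg hgG z hz hz0
    have hconj : ∀ s ∈ (S : Subgroup G), ∃ s' ∈ (S : Subgroup G), (s' : H) = g * (s : H) * g⁻¹ := by
      intro s hs
      obtain ⟨s', hs', e⟩ := (Subgroup.mem_normalizer_iff.1 hg (s : H)).1 ⟨s, hs, rfl⟩
      exact ⟨s', hs', e⟩
    have hconj' : ∀ s ∈ (S : Subgroup G), ∃ s' ∈ (S : Subgroup G), (s' : H) = g⁻¹ * (s : H) * g := by
      intro s hs
      obtain ⟨s', hs', e⟩ := (Subgroup.mem_normalizer_iff.1 hg (g⁻¹ * (s : H) * g)).2
        ⟨s, hs, by show (s : H) = g * (g⁻¹ * (s : H) * g) * g⁻¹; group⟩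
      exact ⟨s', hs', e⟩
    obtain ⟨a, ha, ea⟩ := hconj e₀ (hES he₀)
    have hcomm : ∀ s ∈ (S : Subgroup G), ∃ u ∈ W, g * (u : H) * g⁻¹ = ((⁅a, s⁆ : G) : H) := by
      intro s hs
      obtain ⟨s₀, hs₀, es⟩ := hconj' s hs
      refine ⟨⁅e₀, s₀⁆, hEE e₀ he₀ s₀ hs₀, ?_⟩
      have e' : (s : H) = g * (s₀ : H) * g⁻¹ := by rw [es]; group
      simp only [commutatorElement_def, Subgroup.coe_mul, Subgroup.coe_inv, ea, e']
      group
    have hfin : ∀ c ∈ (S : Subgroup G), ⁅a, c⁆ ∈ V₁ → ψV ⁅a, c⁆ = ψV z →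
        ∃ u ∈ W, g * (u : H) * g⁻¹ = (z : H) := by
      intro c hc hcV e
      obtain ⟨u, hu, eu⟩ := hcomm c hc
      refine ⟨u, hu, ?_⟩
      rw [eu]
      refine congrArg Subtype.val (mul_inv_eq_one.1 (d.w_inj _ (mul_mem hcV (inv_mem hz)) ?_))
      rw [b.nat.map_div (d.V_le hcV) (d.V_le hz), e, sub_self]
    have hz' : ψV z = ![ψV z 0, 0] := funext fun i => by fin_cases i <;> simp [hz0]
    obtain ⟨c, hc⟩ := b.nat.upper a ha
    by_cases hc0 : c = 0
    · have haQ : a ∈ Cfsg.pCore p G := (b.nat.inf a ha).1 (by rw [hc, hc0]; exact map_one _)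
      obtain ⟨w, hw, x, hx, y, hy, rfl⟩ := d.decompose a
      have hx1 : x = 1 := d.k_inj x hx (by
        have h1 := (b.nat.inf _ ha).2 haQ
        rwa [map_mul, map_mul, (b.nat.inf w (b.V_le_S (d.V_le hw))).2 (b.V_le_Q (d.V_le hw)),
          (b.nat.inf y (hES hy)).2 (d.E_le hy), one_mul, mul_one] at h1)
      subst hx1
      rw [mul_one] at ha ea hcomm hfin hc
      have hyW : y ∈ W := by
        refine ⟨hy, Subgroup.mem_centralizer_iff.2 fun e he => ?_⟩
        obtain ⟨u, hu, eu⟩ := hcomm e (hES he)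
        have e1 : ⁅w * y, e⁆ = ⁅y, e⁆ := by
          have hc1 : Commute w ⁅y, e⁆ := (d.commV _
            (mul_mem (mul_mem (mul_mem hy he) (inv_mem hy)) (inv_mem he)) w hw).symm
          rw [comm_mul_left, commutatorElement_eq_one_iff_commute.2 (d.commV e he w hw).symm, mul_one,
            hc1.eq, mul_inv_cancel_right]
        rw [e1] at eu
        have hu1 : u = 1 := by
          by_contra h
          exact hgG (hTI g u hu _ (hEE y hy e (hES he)) h eu)
        rw [hu1, Subgroup.coe_one, mul_one, mul_inv_cancel] at eu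
        exact (commutatorElement_eq_one_iff_commute.1 (Subtype.ext eu.symm : ⁅y, e⁆ = 1)).eq.symm
      have hw0 : ψV w 1 ≠ 0 := by
        intro h
        have hwz := (b.line_iff (d.V_le hw)).1 h
        refine hne₀ ?_
        obtain ⟨f, hf, ef⟩ := hconj c₀ (hES hc₀)
        have h2 : Commute (w * y) f :=
          (b.Z_commute hwz hf).mul_left (Subgroup.mem_center_iff.1 (hWc y hyW) f).symm
        have h3 : ((w * y : G) : H) * (f : H) = (f : H) * ((w * y : G) : H) :=
          congrArg Subtype.val h2.eq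
        rw [ea, ef] at h3
        refine Subtype.ext ?_
        show (e₀ : H) * c₀ = c₀ * e₀
        have h4 : g * ((e₀ : H) * c₀) * g⁻¹ = g * ((c₀ : H) * e₀) * g⁻¹ := by
          calc g * ((e₀ : H) * c₀) * g⁻¹ = g * (e₀ : H) * g⁻¹ * (g * (c₀ : H) * g⁻¹) := by group
            _ = _ := by rw [h3]; group
        exact mul_left_cancel (mul_right_cancel h4)
      obtain ⟨s, hs, es⟩ := b.nat.upper_onto (-(ψV z 0) / ψV w 1)
      have e1 : ⁅w * y, s⁆ = ⁅s, w⁆⁻¹ := by
        have hyc : ∀ r, Commute y r := fun r => (Subgroup.mem_center_iff.1 (hWc y hyW) r).symm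
        rw [comm_mul_left, commutatorElement_eq_one_iff_commute.2 (hyc s), mul_one, mul_inv_cancel,
          one_mul, commutatorElement_inv]
      refine hfin s hs ?_ ?_
      · rw [e1]
        exact inv_mem (mul_mem (d.V_normal.conj_mem w hw s) (inv_mem hw))
      · rw [e1, b.nat.map_inv (b.nat.map_comm s (d.V_le hw)).1, b.nat.map_comm_upper es (d.V_le hw), hz']
        funext i
        fin_cases i <;> simp [hw0]
    · obtain ⟨v, hv, ev⟩ := d.w_onto ![0, ψV z 0 / c]
      refine hfin v (b.V_le_S (d.V_le hv)) ?_ ?_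
      · rw [commutatorElement_def]
        exact mul_mem (d.V_normal.conj_mem v hv a) (inv_mem hv)
      · rw [b.nat.map_comm_upper hc (d.V_le hv), ev, hz']
        funext i
        fin_cases i <;> simp [mul_div_cancel₀ _ hc0]
  -- the contradiction
  obtain ⟨g, hg, hgG⟩ := SetLike.not_le_iff_exists.1 hN
  obtain ⟨z, hz, ez⟩ := hVne
  obtain ⟨u, hu, eu⟩ := hclaim g⁻¹ (inv_mem hg) (fun h => hgG (by simpa using inv_mem h)) z hz
    (by rw [ez]; rfl)
  rw [inv_inv] at eu
  have hu1 : u ≠ 1 := by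
    rintro rfl
    rw [Subgroup.coe_one, mul_one, inv_mul_cancel] at eu
    have : z = 1 := Subtype.ext eu.symm
    rw [this, b.nat.map_one] at ez
    simpa using congrFun ez 0
  have hh : g * (t : H) * g⁻¹ * (u : H) * (g * (t : H) * g⁻¹)⁻¹ = (u : H)⁻¹ := by
    have e1 : (u : H) = g * (z : H) * g⁻¹ := by rw [← eu]; group
    have e2 : (t : H) * (z : H) * (t : H)⁻¹ = (z : H)⁻¹ := congrArg Subtype.val (d.inv_t z hz)
    rw [e1]
    calc g * (t : H) * g⁻¹ * (g * (z : H) * g⁻¹) * (g * (t : H) * g⁻¹)⁻¹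
        = g * ((t : H) * (z : H) * (t : H)⁻¹) * g⁻¹ := by group
      _ = (g * (z : H) * g⁻¹)⁻¹ := by rw [e2]; group
  have hhG : g * (t : H) * g⁻¹ ∈ G := hTI _ u hu u⁻¹ (inv_mem hu) hu1 hh
  have hc : ((⟨_, hhG⟩ : G) * u * (⟨_, hhG⟩ : G)⁻¹) = u⁻¹ := Subtype.ext hh
  rw [Subgroup.mem_center_iff.1 (hWc u hu), mul_inv_cancel_right, eq_inv_iff_mul_eq_one, ← sq] at hc
  refine hu1 (orderOf_eq_one_iff.1 (Nat.eq_one_of_dvd_coprimes
    ((Nat.coprime_primes Nat.prime_two hp.out).2 (by omega)) (orderOf_dvd_of_pow_eq_one hc)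
    (orderOf_dvd_of_pow_eq_one (d.pow_p u hu.1))))

end CfsgLib.PushRankOne
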