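import Cfsg.Agent.Lib.PushRankOne.Main
import Cfsg.Agent.Lib.Schur.SLTwo
import Cfsg.Agent.Lib.StemExt.Basic
import Cfsg.Agent.Lib.Classical.Transvection

/-!
The first configuration for `p ≥ 5`: the group is a natural module extended by `SL₂` times a
`p`-group centralised by both.
-/

set_option autoImplicit false
set_option linter.unusedSectionVars false
set_option linter.style.haveILetI false

namespace CfsgLib.PushRankOne

open CfsgLib.SL2 CfsgLib.SL2Module CfsgLib.SL2Module.Baumann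
open scoped MatrixGroups commutatorElement

variable {G : Type*} [Group G] [Finite G] {p : ℕ} [hp : Fact p.Prime]
variable {F : Type} [Field F] [Fintype F] [CharP F p]
variable {S : Sylow p G} {M : Subgroup G} {π : G →* Matrix.ProjectiveSpecialLinearGroup (Fin 2) F}
variable {ρV : G →* SL(2, F)} {ψV : G → Fin 2 → F}

local notation "Q" => Cfsg.pCore p G

/-- The decomposition. -/
structure QdData (S : Sylow p G) (V₁ E K : Subgroup G) (t : G) (ρ : G →* SL(2, F))
    (ψ : G → Fin 2 → F) : Prop where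
  V_le : V₁ ≤ Vc S
  V_normal : V₁.Normal
  E_le : E ≤ Q
  inv_t : ∀ w ∈ V₁, t * w * t⁻¹ = w⁻¹
  commV : ∀ e ∈ E, ∀ w ∈ V₁, Commute e w
  commK : ∀ e ∈ E, ∀ k ∈ K, Commute e k
  decompose : ∀ g : G, ∃ w ∈ V₁, ∃ k ∈ K, ∃ e ∈ E, g = w * k * e
  k_inj : ∀ k ∈ K, ρ k = 1 → k = 1
  k_onto : ∀ m, ∃ k ∈ K, ρ k = m
  w_inj : ∀ w ∈ V₁, ψ w = 0 → w = 1
  w_onto : ∀ z, ∃ w ∈ V₁, ψ w = z
  disjoint : V₁ ⊓ E = ⊥
  pow_p : ∀ e ∈ E, e ^ p = 1
  class_two : ∀ a ∈ (S : Subgroup G), ∀ b ∈ (S : Subgroup G), ∀ c ∈ (S : Subgroup G), Commute ⁅a, b⁆ c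

/-- A perfect central extension of `SL₂(q)`, `q ≠ 4, 9`, is injective. -/
theorem perfect_cover_inj {K : Type*} [Group K] [Finite K] (h4 : Fintype.card F ≠ 4)
    (h9 : Fintype.card F ≠ 9) (hK : commutator K = ⊤) (σ : K →* SL(2, F))
    (hσ : Function.Surjective σ) (hc : σ.ker ≤ Subgroup.center K) : Function.Injective σ := by
  let e : Shrink.{0} K ≃* K := Shrink.mulEquiv
  haveI : Finite (Shrink.{0} K) := Finite.of_equiv _ e.toEquiv.symm
  let σ' : Shrink.{0} K →* SL(2, F) := σ.comp e.toMonoidHom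
  have hperf : commutator (Shrink.{0} K) = ⊤ := by
    rw [commutator_def, ← Subgroup.map_top_of_surjective e.symm.toMonoidHom e.symm.surjective,
      ← Subgroup.map_commutator, ← commutator_def, hK]
  have hst : Cfsg.IsStemExtension σ' := by
    refine ⟨hσ.comp e.surjective, fun x hx => Subgroup.mem_center_iff.2 fun y => ?_, hperf ▸ le_top⟩
    apply e.injective
    rw [map_mul, map_mul]
    exact Subgroup.mem_center_iff.1 (hc (show e x ∈ σ.ker from hx)) (e y)
  have hker := CfsgLib.StemExt.ker_eq_bot_of_hasCyclicSchurMultiplier_one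
    (CfsgLib.Schur.hasTrivialMultiplier_SL_two h4 h9) σ' hst
  intro a b hab
  have h1 : e.symm a = e.symm b := (MonoidHom.ker_eq_bot_iff σ').1 hker (by
    show σ (e (e.symm a)) = σ (e (e.symm b))
    rw [e.apply_symm_apply, e.apply_symm_apply, hab])
  exact e.symm.injective h1

theorem exists_qdData (b : Base S M π ρV ψV) {α : MulAut (S : Subgroup G)}
    (hα : ¬ act α (Vc S) ≤ Q) (h5 : 5 ≤ p) :
    ∃ (V₁ E K : Subgroup G) (t : G), QdData S V₁ E K t ρV ψV := by
  classical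
  haveI := b.Q_normal
  obtain ⟨-, -, htop, hQL, hV⟩ := caseOne b hα
  obtain ⟨hcl, -, -, hexp, -, -⟩ := caseOne_sylow b hα
  set L := Subgroup.normalClosure (act α (Vc S) : Set G) with hL
  haveI : L.Normal := Subgroup.normalClosure_normal
  set V := Vc S with hVdef
  have hp2 : p ≠ 2 := by omega
  have hodd : Odd p := hp.out.odd_of_ne_two hp2
  obtain ⟨m₂, hm₂⟩ := hodd
  set k := m₂ + 1 with hk
  have h2k : 2 * k = p + 1 := by omega
  have hcast : ∀ r : ℕ, 0 < r → r < p → (r : F) ≠ 0 := fun r hr0 hr h => by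
    have := Nat.le_of_dvd hr0 ((CharP.cast_eq_zero_iff F p r).1 h)
    omega
  have h2F : (2 : F) ≠ 0 := by simpa using hcast 2 (by omega) (by omega)
  have hSp : ∀ s ∈ (S : Subgroup G), s ^ p = 1 := fun s hs => by
    have h := Monoid.pow_exponent_eq_one (⟨s, hs⟩ : (S : Subgroup G))
    rw [hexp hp2] at h
    exact congrArg Subtype.val h
  have hclass : ∀ a ∈ (S : Subgroup G), ∀ b' ∈ (S : Subgroup G), ∀ c ∈ (S : Subgroup G),
      Commute ⁅a, b'⁆ c := by
    intro a ha b' hb c hc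
    rw [← commutatorElement_eq_one_iff_commute, ← Subgroup.mem_bot, ← hcl,
      Subgroup.lowerCentralSeries_succ, Subgroup.lowerCentralSeries_succ,
      Subgroup.lowerCentralSeries_zero]
    exact Subgroup.commutator_mem_commutator (Subgroup.commutator_mem_commutator ha hb) hc
  have hsq : ∀ c ∈ (S : Subgroup G), c ^ k * c ^ k = c := fun c hc => by
    rw [← pow_add, ← two_mul, h2k, pow_succ, hSp c hc, one_mul]
  -- the involution
  have hLsurj : ∀ x, ∃ l ∈ L, ρV l = x := by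
    intro x
    obtain ⟨g, rfl⟩ := b.nat.surj x
    have hg : g ∈ ((Q ⊔ L : Subgroup G) : Set G) := by rw [htop]; trivial
    rw [Subgroup.mul_normal] at hg
    obtain ⟨q, hq, l, hl, rfl⟩ := hg
    exact ⟨l, hl, by rw [map_mul, (hV q).2 hq, one_mul]⟩
  obtain ⟨t₀, ht₀L, ht₀⟩ := hLsurj (-1)
  set t := t₀ ^ p with htdef
  have htL : t ∈ L := pow_mem ht₀L p
  have htρ : ρV t = -1 := by rw [htdef, map_pow, ht₀, Odd.neg_one_pow ⟨m₂, hm₂⟩]
  have htt : t * t = 1 := by
    have h1 : t₀ ^ 2 ∈ Q := (hV _).1 (by rw [map_pow, ht₀, neg_one_sq])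
    rw [htdef, ← pow_add, ← two_mul, pow_mul]
    exact hSp _ (pCore_le S h1)
  have htinv : t⁻¹ = t := inv_eq_of_mul_eq_one_right htt
  have hψt : ∀ v ∈ V, ψV (t * v * t⁻¹) = -ψV v := fun v hv => by
    rw [b.nat.equiv t v hv, htρ, neg_one_mulVec]
  have hψ0 : ∀ v ∈ V, t * v * t⁻¹ = v → v ∈ Subgroup.center G := fun v hv h => by
    have h1 := hψt v hv
    rw [h, eq_neg_iff_add_eq_zero] at h1
    refine (b.zero_iff hv).1 (funext fun i => ?_)
    have h2 : (2 : F) * ψV v i = 0 := by rw [two_mul]; exact congrFun h1 i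
    exact (mul_eq_zero.1 h2).resolve_left h2F
  -- the inverted part of the module
  let V₁ : Subgroup G :=
    { carrier := {v | v ∈ V ∧ t * v * t⁻¹ = v⁻¹}
      one_mem' := ⟨one_mem _, by simp⟩
      mul_mem' := fun {x y} hx hy => ⟨mul_mem hx.1 hy.1, by
        rw [show t * (x * y) * t⁻¹ = (t * x * t⁻¹) * (t * y * t⁻¹) by group, hx.2, hy.2,
          ← mul_inv_rev, (b.commute_V hx.1 hy.1).eq]⟩
      inv_mem' := fun {x} hx => ⟨inv_mem hx.1, by
        rw [show t * x⁻¹ * t⁻¹ = (t * x * t⁻¹)⁻¹ by group, hx.2]⟩ }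
  have hV₁V : V₁ ≤ V := fun _ h => h.1
  let E : Subgroup G := Q ⊓ Subgroup.centralizer ({t} : Set G)
  have hEt : ∀ e ∈ E, t * e = e * t := fun e he =>
    Subgroup.mem_centralizer_iff.1 he.2 t (Set.mem_singleton t)
  have hdisj : V₁ ⊓ E = ⊥ := by
    rw [Subgroup.eq_bot_iff_forall]
    rintro v ⟨hv, he⟩
    have h1 := hv.2
    rw [hEt v he, mul_inv_cancel_right] at h1
    have h2 := hsq v (b.V_le_S hv.1)
    have h3 : v ^ k * v ^ k = (v * v) ^ k := ((Commute.refl v).mul_pow k).symm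
    rw [h3, show v * v = 1 by nth_rw 2 [h1]; exact mul_inv_cancel v, one_pow] at h2
    exact h2.symm
  -- decomposition of the core
  have hsplit : ∀ q ∈ Q, ∃ w ∈ V₁, ∃ e ∈ E, q = w * e := by
    intro q hq
    set c := ⁅t, q⁆ with hc
    have hcV : c ∈ V := by
      rw [hc, ← commutatorElement_inv]
      exact inv_mem (hQL (Subgroup.commutator_mem_commutator hq htL))
    have hcinv : t * c * t⁻¹ = c⁻¹ := by
      rw [hc, commutatorElement_inv, commutatorElement_def, commutatorElement_def, htinv]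
      calc t * (t * q * t * q⁻¹) * t = (t * t) * q * t * q⁻¹ * t := by group
        _ = q * t * q⁻¹ * t := by rw [htt, one_mul]
    have hw : (c ^ k)⁻¹ ∈ V₁ := inv_mem ⟨pow_mem hcV k, by
      rw [← conj_pow, hcinv, inv_pow]⟩
    refine ⟨(c ^ k)⁻¹, hw, c ^ k * q, ⟨mul_mem (b.V_le_Q (pow_mem hcV k)) hq, ?_⟩, by group⟩
    refine Subgroup.mem_centralizer_iff.2 fun x hx => ?_
    rw [Set.mem_singleton_iff.1 hx, ← mul_inv_eq_iff_eq_mul]
    have h1 : t * q * t⁻¹ = c * q := by rw [hc, commutatorElement_def]; group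
    have hcS : c ∈ (S : Subgroup G) := b.V_le_S hcV
    calc t * (c ^ k * q) * t⁻¹ = (t * c ^ k * t⁻¹) * (t * q * t⁻¹) := by group
      _ = (c ^ k)⁻¹ * (c * q) := by rw [← conj_pow, hcinv, inv_pow, h1]
      _ = (c ^ k)⁻¹ * (c ^ k * c ^ k * q) := by rw [hsq c hcS]
      _ = c ^ k * q := by group
  have hV₁n : V₁.Normal := by
    refine ⟨fun v hv g => ⟨(Vc_normal S).conj_mem v hv.1 g, ?_⟩⟩
    have hx : t⁻¹ * (g⁻¹ * t * g) ∈ Q := (hV _).1 (by
      rw [map_mul, map_mul, map_mul, map_inv, map_inv, htρ]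
      simp)
    set x := t⁻¹ * (g⁻¹ * t * g) with hxdef
    have hxv : x * v * x⁻¹ = v := by rw [(b.commute_Q hx hv.1).eq, mul_inv_cancel_right]
    have htg : t * g = g * (t * x) := by rw [hxdef]; group
    calc t * (g * v * g⁻¹) * t⁻¹ = (t * g) * v * (t * g)⁻¹ := by group
      _ = g * (t * (x * v * x⁻¹) * t⁻¹) * g⁻¹ := by rw [htg]; group
      _ = g * v⁻¹ * g⁻¹ := by rw [hxv, hv.2]
      _ = (g * v * g⁻¹)⁻¹ := by group
  -- the centraliser of the involution supplements the module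
  let C : Subgroup G := Subgroup.centralizer ({t} : Set G)
  have hGC : ∀ g : G, ∃ w ∈ V₁, ∃ c ∈ C, g = w * c := by
    intro g
    set x := t⁻¹ * (g * t * g⁻¹) with hxdef
    have hx : x ∈ Q := (hV _).1 (by
      rw [hxdef, map_mul, map_mul, map_mul, map_inv, map_inv, htρ]
      simp)
    obtain ⟨w, hw, e, he, hwe⟩ := hsplit x hx
    have htx : t * x * (t * x) = 1 := by
      rw [hxdef]
      calc t * (t⁻¹ * (g * t * g⁻¹)) * (t * (t⁻¹ * (g * t * g⁻¹))) = g * (t * t) * g⁻¹ := by group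
        _ = 1 := by rw [htt]; group
    have hwc : Commute e w := b.commute_Q he.1 (hV₁V hw)
    have he1 : e = 1 := by
      have h1 : t * x * t⁻¹ = x⁻¹ := by
        rw [htinv]
        exact eq_inv_of_mul_eq_one_left (by rw [← htx]; group)
      rw [hwe, show t * (w * e) * t⁻¹ = (t * w * t⁻¹) * (t * e * t⁻¹) by group, hw.2, hEt e he,
        mul_inv_cancel_right, mul_inv_rev, (hwc.inv_inv).eq] at h1
      have h2 : e = e⁻¹ := mul_left_cancel h1
      have h3 := hsq e (pCore_le S he.1)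
      rw [((Commute.refl e).mul_pow k).symm, show e * e = 1 by nth_rw 2 [h2]; exact mul_inv_cancel e,
        one_pow] at h3
      exact h3.symm
    have hxw : x = w := by rw [hwe, he1, mul_one]
    have hgt : g * t * g⁻¹ = t * w := by rw [← hxw, hxdef, mul_inv_cancel_left]
    set u := (w ^ k)⁻¹ with hu
    have huV : u ∈ V₁ := inv_mem (pow_mem hw k)
    refine ⟨u, huV, u⁻¹ * g, Subgroup.mem_centralizer_iff.2 fun y hy => ?_, by group⟩
    rw [Set.mem_singleton_iff.1 hy]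
    have hut : t * u * t⁻¹ = u⁻¹ := huV.2
    have huu : (u * u)⁻¹ = w := by rw [hu, ← mul_inv_rev, inv_inv, hsq w (b.V_le_S (hV₁V hw))]
    have h1 : u * t = t * w * u := by
      rw [← huu]
      calc u * t = (t * t) * u * t⁻¹ * (t * t) := by rw [htt, htinv]; group
        _ = t * (t * u * t⁻¹) * (t * t) := by group
        _ = t * u⁻¹ := by rw [hut, htt, mul_one]
        _ = t * (u * u)⁻¹ * u := by group
    calc t * (u⁻¹ * g) = u⁻¹ * (u * t * u⁻¹) * g := by group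
      _ = u⁻¹ * (t * w) * g := by rw [h1, mul_inv_cancel_right]
      _ = u⁻¹ * g * t := by rw [← hgt]; group
  have hCsurj : ∀ x, ∃ c ∈ C, ρV c = x := by
    intro x
    obtain ⟨g, rfl⟩ := b.nat.surj x
    obtain ⟨w, hw, c, hc, rfl⟩ := hGC g
    exact ⟨c, hc, by rw [map_mul, (hV w).2 (b.V_le_Q (hV₁V hw)), one_mul]⟩
  -- the derived subgroups of the centraliser
  set K₁ : Subgroup G := ⁅C, C⁆ with hK₁
  set K₂ : Subgroup G := ⁅K₁, K₁⁆ with hK₂
  set K : Subgroup G := ⁅K₂, K₂⁆ with hKdef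
  have hK₁C : K₁ ≤ C := C.commutator_le_self
  have hK₂C : K₂ ≤ C := K₁.commutator_le_self.trans hK₁C
  have hKK₂ : K ≤ K₂ := K₂.commutator_le_self
  have hperfSL : ⁅(⊤ : Subgroup SL(2, F)), (⊤ : Subgroup SL(2, F))⁆ = ⊤ := by
    rw [← commutator_def]
    refine CfsgLib.Classical.commutator_SL_eq_top (Or.inr ⟨2, h2F, fun h => ?_⟩)
    have h3 : ((3 : ℕ) : F) = 0 := by push_cast; linear_combination h
    exact hcast 3 (by omega) (by omega) h3
  have hmapC : C.map ρV = ⊤ := eq_top_iff.2 fun x _ => by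
    obtain ⟨c, hc, rfl⟩ := hCsurj x
    exact Subgroup.mem_map_of_mem _ hc
  have hmapK₁ : K₁.map ρV = ⊤ := by rw [hK₁, Subgroup.map_commutator, hmapC, hperfSL]
  have hmapK₂ : K₂.map ρV = ⊤ := by rw [hK₂, Subgroup.map_commutator, hmapK₁, hperfSL]
  have hmapK : K.map ρV = ⊤ := by rw [hKdef, Subgroup.map_commutator, hmapK₂, hperfSL]
  -- commutators act trivially on `Q / V`
  let mk := QuotientGroup.mk' V
  have hlq : ∀ l ∈ L, ∀ q ∈ Q, Commute (mk l) (mk q) := fun l hl q hq => by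
    have h1 : mk ⁅q, l⁆ = 1 :=
      (QuotientGroup.eq_one_iff _).2 (hQL (Subgroup.commutator_mem_commutator hq hl))
    rw [map_commutatorElement, commutatorElement_eq_one_iff_commute] at h1
    exact h1.symm
  have hact : K₁ ≤ (Subgroup.centralizer (((Cfsg.pCore p G).map mk : Subgroup (G ⧸ V)) : Set (G ⧸ V))).comap mk := by
    refine Subgroup.commutator_le.2 fun g _ g' _ => ?_
    rw [Subgroup.mem_comap, Subgroup.mem_centralizer_iff]
    rintro _ ⟨q, hq, rfl⟩
    have hg : g ∈ ((Q ⊔ L : Subgroup G) : Set G) := by rw [htop]; trivial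
    have hg' : g' ∈ ((Q ⊔ L : Subgroup G) : Set G) := by rw [htop]; trivial
    rw [Subgroup.mul_normal] at hg hg'
    obtain ⟨x, hx, l, hl, rfl⟩ := hg
    obtain ⟨x', hx', l', hl', rfl⟩ := hg'
    have e1 := hlq l hl x' hx'
    have e2 := hlq l' hl' x hx
    have e3 : Commute (mk ⁅l, l'⁆) (mk q) :=
      hlq _ (mul_mem (mul_mem (mul_mem hl hl') (inv_mem hl)) (inv_mem hl')) q hq
    have e4 : Commute (mk ⁅x, x'⁆) (mk q) :=
      (hclass x (pCore_le S hx) x' (pCore_le S hx') q (pCore_le S hq)).map mk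
    have e5 : Commute (mk ⁅l, l'⁆) (mk x') :=
      hlq _ (mul_mem (mul_mem (mul_mem hl hl') (inv_mem hl)) (inv_mem hl')) x' hx'
    have e6 : Commute (mk ⁅l, l'⁆) (mk x) :=
      hlq _ (mul_mem (mul_mem (mul_mem hl hl') (inv_mem hl)) (inv_mem hl')) x hx
    have key : mk ⁅x * l, x' * l'⁆ = mk ⁅x, x'⁆ * mk ⁅l, l'⁆ := by
      rw [map_commutatorElement, map_commutatorElement, map_commutatorElement, map_mul, map_mul]
      rw [map_commutatorElement] at e5 e6
      generalize mk x = a at e2 e6 ⊢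
      generalize mk x' = a' at e1 e5 ⊢
      generalize mk l = c at e1 e5 e6 ⊢
      generalize mk l' = c' at e2 e5 e6 ⊢
      simp only [commutatorElement_def] at e5 e6 ⊢
      calc a * c * (a' * c') * (a * c)⁻¹ * (a' * c')⁻¹
          = a * (c * a') * (c' * c⁻¹) * a⁻¹ * c'⁻¹ * a'⁻¹ := by group
        _ = a * (a' * c) * (c' * c⁻¹) * a⁻¹ * c'⁻¹ * a'⁻¹ := by rw [e1.eq]
        _ = a * a' * (c * c' * c⁻¹) * (a⁻¹ * c'⁻¹) * a'⁻¹ := by group
        _ = a * a' * (c * c' * c⁻¹) * (c'⁻¹ * a⁻¹) * a'⁻¹ := by rw [(e2.symm.inv_inv).eq]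
        _ = a * a' * ((c * c' * c⁻¹ * c'⁻¹) * (a⁻¹ * a'⁻¹)) := by group
        _ = a * a' * ((a⁻¹ * a'⁻¹) * (c * c' * c⁻¹ * c'⁻¹)) := by
          rw [((e6.inv_right).mul_right e5.inv_right).eq]
        _ = a * a' * a⁻¹ * a'⁻¹ * (c * c' * c⁻¹ * c'⁻¹) := by group
    rw [key]
    exact (e4.mul_left e3).eq.symm
  have hEK₂ : ∀ e ∈ E, ∀ x ∈ K₂, Commute e x := by
    have h1 : ∀ e ∈ E, ∀ g ∈ K₁, ⁅g, e⁆ ∈ Subgroup.center G := by
      intro e he g hg
      have hgV : ⁅g, e⁆ ∈ V := by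
        refine (QuotientGroup.eq_one_iff _).1 (show mk ⁅g, e⁆ = 1 from ?_)
        rw [map_commutatorElement, commutatorElement_eq_one_iff_commute]
        exact (Subgroup.mem_centralizer_iff.1 (hact hg) _ ⟨e, he.1, rfl⟩).symm
      refine hψ0 _ hgV ?_
      have hgt := Subgroup.mem_centralizer_iff.1 (hK₁C hg) t (Set.mem_singleton t)
      rw [comm_conj, hgt, hEt e he, mul_inv_cancel_right, mul_inv_cancel_right]
    have h2 : ⁅⁅K₁, E⁆, K₁⁆ = ⊥ := by
      rw [Subgroup.commutator_eq_bot_iff_le_centralizer]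
      refine (Subgroup.commutator_le.2 fun g hg e he => ?_ : ⁅K₁, E⁆ ≤ Subgroup.center G).trans
        (Subgroup.center_le_centralizer _)
      exact h1 e he g hg
    have h3 : ⁅⁅E, K₁⁆, K₁⁆ = ⊥ := by rwa [Subgroup.commutator_comm E K₁]
    have h4 : ⁅⁅K₁, K₁⁆, E⁆ = ⊥ := Subgroup.commutator_commutator_eq_bot_of_rotate h2 h3
    intro e he x hx
    refine (commutatorElement_eq_one_iff_commute.1 (Subgroup.mem_bot.1 ?_)).symm
    rw [← h4]
    exact Subgroup.commutator_mem_commutator hx he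
  have hKE : ∀ e ∈ E, ∀ x ∈ K, Commute e x := fun e he x hx => hEK₂ e he x (hKK₂ hx)
  have hQC : ∀ x ∈ C, ρV x = 1 → x ∈ E := fun x hx h => ⟨(hV x).1 h, hx⟩
  have hperfK : ⁅K, K⁆ = K := by
    refine le_antisymm K.commutator_le_self (Subgroup.commutator_le.2 fun x hx y hy => ?_)
    have hdec : ∀ z ∈ K₂, ∃ z' ∈ K, ∃ e, (∀ a ∈ K₂, Commute e a) ∧ z = z' * e := by
      intro z hz
      obtain ⟨z', hz', e⟩ : ρV z ∈ K.map ρV := hmapK ▸ Subgroup.mem_top _
      refine ⟨z', hz', z'⁻¹ * z, fun a ha => hEK₂ _ (hQC _ ?_ ?_) a ha, by group⟩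
      · exact hK₂C (mul_mem (inv_mem (hKK₂ hz')) hz)
      · rw [map_mul, map_inv, e, inv_mul_cancel]
    obtain ⟨x', hx', c, hc, rfl⟩ := hdec x hx
    obtain ⟨y', hy', c', hc', rfl⟩ := hdec y hy
    have : ⁅x' * c, y' * c'⁆ = ⁅x', y'⁆ := by
      simp only [commutatorElement_def, mul_inv_rev]
      calc x' * c * (y' * c') * (c⁻¹ * x'⁻¹) * (c'⁻¹ * y'⁻¹)
          = x' * (c * (y' * c')) * c⁻¹ * x'⁻¹ * c'⁻¹ * y'⁻¹ := by group
        _ = x' * y' * (c' * x'⁻¹) * c'⁻¹ * y'⁻¹ := by rw [(hc _ hy).eq]; group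
        _ = x' * y' * x'⁻¹ * y'⁻¹ := by rw [(hc' _ (inv_mem (hKK₂ hx'))).eq]; group
    rw [this]
    exact Subgroup.commutator_mem_commutator hx' hy'
  have hKC : K ≤ C := hKK₂.trans hK₂C
  have hKinj : ∀ x ∈ K, ρV x = 1 → x = 1 := by
    have hcard : ∀ r : ℕ, r ≤ 9 → (∀ d, d ∣ r → d.Prime → d < 5) → Fintype.card F ≠ r := by
      intro r _ hr h
      have h0 : (Fintype.card F : F) = 0 := FiniteField.cast_card_eq_zero F
      rw [h, CharP.cast_eq_zero_iff F p] at h0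
      exact absurd (hr p h0 hp.out) (by omega)
    have hinj := perfect_cover_inj (K := K) (hcard 4 (by norm_num) fun d hd _ => by
        have := Nat.le_of_dvd (by norm_num) hd; omega)
      (hcard 9 (by norm_num) fun d hd hdp => by
        rw [show (9 : ℕ) = 3 ^ 2 by norm_num] at hd
        rw [(Nat.prime_dvd_prime_iff_eq hdp Nat.prime_three).1 (hdp.dvd_of_dvd_pow hd)]
        norm_num)
      (by
        refine Subgroup.map_injective K.subtype_injective ?_
        rw [commutator_def, Subgroup.map_commutator, ← MonoidHom.range_eq_map, Subgroup.range_subtype,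
          hperfK])
      (ρV.comp K.subtype) (fun x => by
        obtain ⟨z, hz, e⟩ : x ∈ K.map ρV := hmapK ▸ Subgroup.mem_top _
        exact ⟨⟨z, hz⟩, e⟩)
      (fun x hx => Subgroup.mem_center_iff.2 fun y =>
        Subtype.ext (hKE _ (hQC _ (hKC x.2) hx) y y.2).eq.symm)
    intro x hx h
    exact congrArg Subtype.val (@hinj ⟨x, hx⟩ 1 (by rw [map_one]; exact h))
  refine ⟨V₁, E, K, t, hV₁V, hV₁n, inf_le_left, fun w hw => hw.2,
    fun e he w hw => b.commute_Q he.1 (hV₁V hw), hKE, fun g => ?_, hKinj, fun x => ?_, ?_, ?_, hdisj,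
    fun e he => hSp e (pCore_le S he.1), hclass⟩
  · obtain ⟨w, hw, c, hc, rfl⟩ := hGC g
    obtain ⟨z, hz, e⟩ : ρV c ∈ K.map ρV := hmapK ▸ Subgroup.mem_top _
    refine ⟨w, hw, z, hz, z⁻¹ * c, hQC _ (mul_mem (inv_mem (hKC hz)) hc) ?_, by group⟩
    rw [map_mul, map_inv, e, inv_mul_cancel]
  · obtain ⟨z, hz, e⟩ : x ∈ K.map ρV := hmapK ▸ Subgroup.mem_top _
    exact ⟨z, hz, e⟩
  · intro w hw h
    refine Subgroup.mem_bot.1 (hdisj ▸ ⟨hw, b.V_le_Q (hV₁V hw), ?_⟩)
    exact Subgroup.mem_centralizer_iff.2 fun y _ =>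
      Subgroup.mem_center_iff.1 ((b.zero_iff (hV₁V hw)).1 h) y
  · intro z
    obtain ⟨v, hv, ev⟩ := b.nat.onto z
    obtain ⟨w, hw, e, he, rfl⟩ := hsplit v (b.V_le_Q hv)
    have heV : e ∈ V := by
      have := mul_mem (inv_mem (hV₁V hw)) hv
      rwa [inv_mul_cancel_left] at this
    refine ⟨w, hw, ?_⟩
    rw [← ev, b.nat.add _ (hV₁V hw) _ heV,
      (b.zero_iff heV).2 (hψ0 e heV (by rw [hEt e he, mul_inv_cancel_right])), add_zero]

end CfsgLib.PushRankOne
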