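import Cfsg.Agent.Lib.SL2Module.Baumann
import Cfsg.Agent.Lib.PushRankOne.Aut
import Cfsg.Agent.Lib.LocalCGT.BlockModule

/-!
A section of the core on which a Sylow subgroup acts quadratically with small index of fixed points
is the natural `SL₂(F)`-module for the whole group, up to the fixed points of the whole group.
-/

set_option autoImplicit false
set_option linter.unusedSectionVars false

namespace CfsgLib.PushRankOne

open CfsgLib.SL2 CfsgLib.SL2Module CfsgLib.SL2Module.Baumann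
open scoped MatrixGroups commutatorElement IsMulCommutative

variable {G : Type*} [Group G] [Finite G] {p : ℕ} [hp : Fact p.Prime]
variable {F : Type} [Field F] [Fintype F] [CharP F p]
variable {S : Sylow p G} {M : Subgroup G} {π : G →* Matrix.ProjectiveSpecialLinearGroup (Fin 2) F}

local notation "Q" => Cfsg.pCore p G

/-- The natural action on the section `U / N`. -/
structure Natural (S : Sylow p G) (M U N : Subgroup G) (ρ : G →* SL(2, F)) (ψ : G → Fin 2 → F) :
    Prop where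
  surj : Function.Surjective ρ
  ker : ∀ g : G, ρ g = 1 ↔ ∀ u ∈ U, ⁅g, u⁆ ∈ N
  add : ∀ a ∈ U, ∀ b ∈ U, ψ (a * b) = ψ a + ψ b
  zero : ∀ a ∈ U, (ψ a = 0 ↔ ∀ g : G, ⁅g, a⁆ ∈ N)
  onto : ∀ z, ∃ a ∈ U, ψ a = z
  equiv : ∀ g : G, ∀ a ∈ U, ψ (g * a * g⁻¹) = (ρ g : Matrix (Fin 2) (Fin 2) F).mulVec (ψ a)
  upper : ∀ s ∈ (S : Subgroup G), ∃ c : F, ρ s = upperHom (Multiplicative.ofAdd c)
  upper_onto : ∀ c : F, ∃ s ∈ (S : Subgroup G), ρ s = upperHom (Multiplicative.ofAdd c)
  inf : ∀ s ∈ (S : Subgroup G), ρ s = 1 ↔ s ∈ Q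
  line : ∀ a ∈ U, ((∀ s ∈ (S : Subgroup G), ⁅s, a⁆ ∈ N) ↔ ψ a 1 = 0)
  borel : ∀ g : G, g ∈ M ↔ (ρ g : Matrix (Fin 2) (Fin 2) F) 1 0 = 0

/-- The trivial intersection property in the quotient by a normal subgroup inside `M`. -/
theorem quot_ti (st : Setting S M π) (R : Subgroup G) [hRn : R.Normal] (hRM : R ≤ M)
    (hQR : Q ≤ R) {h t : G ⧸ R} (ht : t ≠ 1) (htn : ∃ n, t ^ p ^ n = 1)
    (htX : t ∈ M.map (QuotientGroup.mk' R)) (hht : h * t * h⁻¹ ∈ M.map (QuotientGroup.mk' R)) :
    h ∈ M.map (QuotientGroup.mk' R) := by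
  set X := M.map (QuotientGroup.mk' R) with hX
  have hmemX : ∀ g : G, (g : G ⧸ R) ∈ X ↔ g ∈ M := fun g => ⟨by
    rintro ⟨m, hm, e⟩
    have h1 : m⁻¹ * g ∈ R := QuotientGroup.eq.1 e
    rw [show g = m * (m⁻¹ * g) by group]
    exact mul_mem hm (hRM h1), fun h => ⟨g, h, rfl⟩⟩
  obtain ⟨n, hn⟩ := htn
  have hS' := Sylow.coe_mapSurjective (QuotientGroup.mk'_surjective R) S
  have hSX : (S : Subgroup G).map (QuotientGroup.mk' R) ≤ X := Subgroup.map_mono st.le
  let P' : Sylow p X := (S.mapSurjective (f := QuotientGroup.mk' R)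
    (QuotientGroup.mk'_surjective R)).subtype (by rw [hS']; exact hSX)
  have htp : IsPGroup p (Subgroup.zpowers (⟨t, htX⟩ : X)) := by
    rintro ⟨_, i, rfl⟩
    refine ⟨n, Subtype.ext ?_⟩
    have h1 : (⟨t, htX⟩ : X) ^ p ^ n = 1 := Subtype.ext hn
    show ((⟨t, htX⟩ : X) ^ i) ^ p ^ n = 1
    rw [← zpow_natCast, ← zpow_mul, mul_comm, zpow_mul, zpow_natCast, h1, one_zpow]
  obtain ⟨P'', hP''⟩ := htp.exists_le_sylow
  obtain ⟨c, hc⟩ := MulAction.exists_smul_eq X P' P''
  have h1 := hP'' (Subgroup.mem_zpowers _)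
  rw [← hc] at h1
  obtain ⟨t₁, ht₁, e⟩ := h1
  have ht₁' : (t₁ : G ⧸ R) ∈ (S : Subgroup G).map (QuotientGroup.mk' R) := hS' ▸ ht₁
  obtain ⟨s, hs, hst⟩ := ht₁'
  obtain ⟨m, hm, hmc⟩ := (c.2 : (c : G ⧸ R) ∈ M.map _)
  obtain ⟨x, rfl⟩ := QuotientGroup.mk_surjective h
  have et : t = ((m * s * m⁻¹ : G) : G ⧸ R) := by
    rw [QuotientGroup.mk_mul, QuotientGroup.mk_mul, QuotientGroup.mk_inv]
    change t = QuotientGroup.mk' R m * QuotientGroup.mk' R s * (QuotientGroup.mk' R m)⁻¹
    rw [hst, hmc]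
    exact (congrArg Subtype.val e).symm
  rw [et, ← QuotientGroup.mk_mul, ← QuotientGroup.mk_inv, ← QuotientGroup.mk_mul, hmemX,
    mem_M_iff st] at hht
  have hπs : π s ≠ 1 := fun e' => ht (by
    rw [et, QuotientGroup.eq_one_iff]
    exact hRn.conj_mem s (hQR (ker_inf st hs e')) m)
  rw [hmemX, show x = x * m * m⁻¹ by group]
  refine mul_mem ((mem_M_iff st _).2 ?_) (inv_mem hm)
  have h3 : π (x * m) * π s * (π (x * m))⁻¹ ∈ borelPSL F := by
    rw [← map_inv, ← map_mul, ← map_mul, show x * m * s * (x * m)⁻¹ = x * (m * s * m⁻¹) * x⁻¹ by group]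
    exact hht
  exact mem_borelPSL_of_conj (map_mem st hs) hπs
    (mem_upperPSL_of_pow p h3 (by rw [conj_pow, upper_pow p (map_mem st hs)]; group))

/-- The quotient is generated by `p`-elements. -/
theorem pgen_quot (st : Setting S M π) (R : Subgroup G) [R.Normal] :
    Strong.PGen p (⊤ : Subgroup (G ⧸ R)) := by
  intro y _
  obtain ⟨g, rfl⟩ := QuotientGroup.mk_surjective y
  have hg : g ∈ Subgroup.normalClosure ((S : Subgroup G) : Set G) := by
    rw [normalClosure_S st]; trivial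
  refine ((Subgroup.map_le_iff_le_comap (f := QuotientGroup.mk' R)).2 ((Subgroup.closure_le _).2 ?_))
    (⟨g, hg, rfl⟩ : QuotientGroup.mk' R g ∈ (Subgroup.normalClosure ((S : Subgroup G) : Set G)).map (QuotientGroup.mk' R))
  intro t ht
  rw [Group.conjugatesOfSet, Set.mem_iUnion₂] at ht
  obtain ⟨s, hs, hts⟩ := ht
  obtain ⟨n, hn⟩ := S.2 ⟨s, hs⟩
  obtain ⟨c, hc⟩ := isConj_iff.1 hts
  refine Subgroup.subset_closure ⟨Subgroup.mem_top _, n, ?_⟩
  rw [← map_pow, ← hc, conj_pow, show s ^ p ^ n = 1 from congrArg Subtype.val hn, mul_one,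
    mul_inv_cancel, map_one]

theorem card_upperPSL : Nat.card (upperPSL F) = Nat.card F := by
  have hinj : Function.Injective ((proj (F := F)).comp (upperHom (F := F))) := by
    refine (injective_iff_map_eq_one _).2 fun a ha => ?_
    rcases eq_one_or_eq_neg_one_of_mem_center _ ((proj_eq_one_iff _).1 ha) with e | e
    · exact upperHom_injective (e.trans (map_one _).symm)
    · have h01 := congrArg (fun m : SL(2, F) => (m : Matrix (Fin 2) (Fin 2) F) 0 1) e
      simp [upperHom_coe] at h01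
      exact h01
  rw [upperPSL, MonoidHom.range_eq_map, Subgroup.map_map,
    Subgroup.card_map_of_injective hinj, Subgroup.card_top]
  exact Nat.card_congr Multiplicative.toAdd

theorem card_S (st : Setting S M π) :
    Nat.card (S : Subgroup G) = Nat.card F * Nat.card Q := by
  have h := Subgroup.card_eq_card_quotient_mul_card_subgroup (π.comp (S : Subgroup G).subtype).ker
  have e : (π.comp (S : Subgroup G).subtype).ker = (Q).subgroupOf (S : Subgroup G) := by
    ext ⟨s, hs⟩
    rw [MonoidHom.mem_ker, Subgroup.mem_subgroupOf]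
    exact ⟨ker_inf st hs, pCore_ker st⟩
  rw [Nat.card_congr (QuotientGroup.quotientKerEquivRange _).toEquiv, MonoidHom.range_comp,
    Subgroup.range_subtype, st.img, card_upperPSL, e,
    Nat.card_congr (Subgroup.subgroupOfEquivOfLe (pCore_le S)).toEquiv] at h
  exact h

/-- The natural module. -/
theorem exists_natural (st : Setting S M π) (U N : Subgroup G) [hUn : U.Normal] [hNn : N.Normal]
    (hNU : N ≤ U) (hab : ⁅U, U⁆ ≤ N) (hpow : ∀ u ∈ U, u ^ p ∈ N) (hQU : ⁅(Q), U⁆ ≤ N)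
    (hquad : ⁅(S : Subgroup G), ⁅(S : Subgroup G), U⁆⁆ ≤ N) {L : Subgroup G} (hNL : N ≤ L)
    (hLU : L ≤ U) (hL : ⁅(S : Subgroup G), L⁆ ≤ N)
    (hcard : Nat.card U * Nat.card Q ≤ Nat.card (S : Subgroup G) * Nat.card L)
    (hDM : ∀ g : G, (∀ u ∈ U, ⁅g, u⁆ ∈ N) → g ∈ M) :
    ∃ (ρ : G →* SL(2, F)) (ψ : G → Fin 2 → F), Natural S M U N ρ ψ := by
  classical
  haveI hQn : (Q).Normal := Fitting.pCore_normal p
  let mN := QuotientGroup.mk' N
  let U' : Subgroup (G ⧸ N) := U.map mN
  haveI : U'.Normal := hUn.map _ (QuotientGroup.mk'_surjective N)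
  have hU'c : ∀ a ∈ U', ∀ b ∈ U', Commute a b := by
    rintro _ ⟨a, ha, rfl⟩ _ ⟨b, hb, rfl⟩
    rw [← commutatorElement_eq_one_iff_commute, ← map_commutatorElement]
    exact (QuotientGroup.eq_one_iff _).2 (hab (Subgroup.commutator_mem_commutator ha hb))
  haveI : IsMulCommutative U' := ⟨⟨fun a b => Subtype.ext (hU'c a a.2 b b.2)⟩⟩
  have hU'el : Cfsg.IsElementaryAbelian p U' := ⟨inferInstance, by
    rintro _ ⟨a, ha, rfl⟩
    rw [← map_pow]
    exact (QuotientGroup.eq_one_iff _).2 (hpow a ha)⟩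
  have hnorm : (⊤ : Subgroup (G ⧸ N)) ≤ Subgroup.normalizer (U' : Set (G ⧸ N)) :=
    (Subgroup.normalizer_eq_top (H := U')).ge
  let φ₀ : G →* AddMonoid.End (Additive U') :=
    (Quadratic.act U' ⊤ hnorm).comp ((Subgroup.topEquiv.symm.toMonoidHom).comp mN)
  have hφ₀ : ∀ (g : G) (v : Additive U'),
      (((φ₀ g v).toMul : U') : G ⧸ N) = mN g * ((v.toMul : U') : G ⧸ N) * (mN g)⁻¹ := fun g v => rfl
  set D : Subgroup G := φ₀.ker with hDdef
  have hmemD : ∀ g, g ∈ D ↔ ∀ u ∈ U, ⁅g, u⁆ ∈ N := by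
    intro g
    rw [hDdef, MonoidHom.mem_ker]
    constructor
    · intro h u hu
      have h1 := congrArg (fun w : Additive U' => ((w.toMul : U') : G ⧸ N))
        (DFunLike.congr_fun h (Additive.ofMul (⟨mN u, ⟨u, hu, rfl⟩⟩ : U')))
      simp only [hφ₀] at h1
      have h2 : mN g * mN u * (mN g)⁻¹ = mN u := h1
      refine (QuotientGroup.eq_one_iff _).1 (show mN ⁅g, u⁆ = 1 from ?_)
      rw [map_commutatorElement, commutatorElement_def, h2, mul_inv_cancel]
    · intro h
      refine AddMonoidHom.ext fun v => ?_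
      apply Additive.toMul.injective
      apply Subtype.ext
      obtain ⟨u, hu, e⟩ := (v.toMul : U').2
      show mN g * ((v.toMul : U') : G ⧸ N) * (mN g)⁻¹ = ((v.toMul : U') : G ⧸ N)
      rw [← e, mul_inv_eq_iff_eq_mul, ← commutatorElement_eq_one_iff_mul_comm,
        ← map_commutatorElement]
      exact (QuotientGroup.eq_one_iff _).2 (h u hu)
  haveI hDn : D.Normal := MonoidHom.normal_ker _
  have hDMle : D ≤ M := fun g hg => hDM g ((hmemD g).1 hg)
  have hQD : Q ≤ D := fun x hx => (hmemD x).2 fun u hu =>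
    hQU (Subgroup.commutator_mem_commutator hx hu)
  have hDS : D ⊓ (S : Subgroup G) ≤ Q := normal_le st hDn hDMle
  let φ : G ⧸ D →* AddMonoid.End (Additive U') := QuotientGroup.lift D φ₀ (le_refl _)
  have hφinj : Function.Injective φ := (injective_iff_map_eq_one _).2 fun x hx => by
    obtain ⟨g, rfl⟩ := QuotientGroup.mk_surjective x
    exact (QuotientGroup.eq_one_iff _).2 hx
  let mD := QuotientGroup.mk' D
  let X := M.map mD
  let A := (S : Subgroup G).map mD
  have hcardA : Nat.card A = Nat.card F := by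
    have h := Subgroup.card_eq_card_quotient_mul_card_subgroup (mD.comp (S : Subgroup G).subtype).ker
    have e : (mD.comp (S : Subgroup G).subtype).ker = (Q).subgroupOf (S : Subgroup G) := by
      ext ⟨s, hs⟩
      rw [MonoidHom.mem_ker, Subgroup.mem_subgroupOf]
      show (s : G ⧸ D) = 1 ↔ s ∈ Q
      rw [QuotientGroup.eq_one_iff]
      exact ⟨fun h => hDS ⟨h, hs⟩, fun h => hQD h⟩
    rw [Nat.card_congr (QuotientGroup.quotientKerEquivRange _).toEquiv, MonoidHom.range_comp,
      Subgroup.range_subtype, e, card_S st,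
      Nat.card_congr (Subgroup.subgroupOfEquivOfLe (pCore_le S)).toEquiv] at h
    exact (Nat.eq_of_mul_eq_mul_right Nat.card_pos h).symm
  have hcomm : ∀ s ∈ (S : Subgroup G), ∀ u ∈ U,
      mN ⁅s, u⁆ = mN s * mN u * (mN s)⁻¹ * (mN u)⁻¹ := fun s _ u _ => by
    rw [map_commutatorElement, commutatorElement_def]
  have d : Strong.Data p φ X A :=
    { prime := hp.out
      nsmul := Quadratic.act_nsmul hU'el
      inj := hφinj
      le := Subgroup.map_mono st.le
      ne := by
        intro h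
        refine not_le_pCore st fun s hs => hDS ⟨?_, hs⟩
        exact (QuotientGroup.eq_one_iff _).1 (Subgroup.mem_bot.1 (h.le ⟨s, hs, rfl⟩))
      fix := by
        rintro _ ⟨a, ha, rfl⟩ _ ⟨b, hb, rfl⟩ v
        obtain ⟨u, hu, e⟩ := (v.toMul : U').2
        show φ₀ b (φ₀ a v - v) = φ₀ a v - v
        have hc : (((φ₀ a v - v).toMul : U') : G ⧸ N) = mN ⁅a, u⁆ := by
          rw [toMul_sub, Subgroup.coe_div, hφ₀, div_eq_mul_inv, ← e, hcomm a ha u hu]
        apply Additive.toMul.injective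
        apply Subtype.ext
        rw [hφ₀, hc, mul_inv_eq_iff_eq_mul, ← commutatorElement_eq_one_iff_mul_comm,
          ← map_commutatorElement]
        exact (QuotientGroup.eq_one_iff _).2
          (hquad (Subgroup.commutator_mem_commutator hb (Subgroup.commutator_mem_commutator ha hu)))
      big := by
        have h1 : Nat.card (L.map mN) ≤ Nat.card (SL2Module.Offender.fixS φ A) := by
          refine Nat.card_le_card_of_injective (fun v => ⟨Additive.ofMul
            (⟨v.1, Subgroup.map_mono hLU v.2⟩ : U'), ?_⟩) fun v w e => Subtype.ext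
              (congrArg (fun u : SL2Module.Offender.fixS φ A => ((u.1.toMul : U') : G ⧸ N)) e)
          rintro _ ⟨a, ha, rfl⟩
          obtain ⟨l, hl, e⟩ := v.2
          show φ₀ a _ = _
          apply Additive.toMul.injective
          apply Subtype.ext
          rw [hφ₀]
          show mN a * v.1 * (mN a)⁻¹ = v.1
          rw [← e, mul_inv_eq_iff_eq_mul, ← commutatorElement_eq_one_iff_mul_comm,
            ← map_commutatorElement]
          exact (QuotientGroup.eq_one_iff _).2 (hL (Subgroup.commutator_mem_commutator ha hl))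
        have hq : ∀ H : Subgroup G, N ≤ H → Nat.card (H.map mN) * Nat.card N = Nat.card H := by
          intro H hH
          have h := Subgroup.card_eq_card_quotient_mul_card_subgroup (mN.comp H.subtype).ker
          have e : (mN.comp H.subtype).ker = N.subgroupOf H := by
            ext x
            rw [MonoidHom.mem_ker, Subgroup.mem_subgroupOf]
            exact QuotientGroup.eq_one_iff _
          rw [Nat.card_congr (QuotientGroup.quotientKerEquivRange _).toEquiv, MonoidHom.range_comp,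
            Subgroup.range_subtype, e, Nat.card_congr (Subgroup.subgroupOfEquivOfLe hH).toEquiv] at h
          exact h.symm
        rw [Nat.card_congr (Additive.toMul (α := U'))]
        refine le_trans ?_ (Nat.mul_le_mul_left _ h1)
        refine Nat.le_of_mul_le_mul_right (?_ : Nat.card U' * (Nat.card N * Nat.card Q) ≤ _ *
          (Nat.card N * Nat.card Q)) (Nat.mul_pos Nat.card_pos Nat.card_pos)
        calc Nat.card U' * (Nat.card N * Nat.card Q) = Nat.card U * Nat.card Q := by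
              rw [← mul_assoc, hq U hNU]
          _ ≤ Nat.card (S : Subgroup G) * Nat.card L := hcard
          _ = _ := by rw [card_S st, hcardA, ← hq L hNL]; ring
      ti := fun h t ht htn htX hht => quot_ti st D hDMle hQD ht htn htX hht }
  have hXne : ¬ (⊤ : Subgroup (G ⧸ D)) ≤ X := fun h => st.ne (eq_top_iff.2 fun g _ => by
    obtain ⟨m, hm, e⟩ := h (Subgroup.mem_top (g : G ⧸ D))
    rw [show g = m * (m⁻¹ * g) by group]
    exact mul_mem hm (hDMle (QuotientGroup.eq.1 e)))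
  obtain ⟨g₀, -, hg₀⟩ := SetLike.not_le_iff_exists.1 hXne
  obtain ⟨F', iF, iFin, hF', ψ', ρ', hψs, hψ0, hψe, hψA⟩ := Strong.natural d le_top (pgen_quot st D)
    (Strong.meet_all d ⊤ le_top (pgen_quot st D) hXne) (Subgroup.mem_top g₀) hg₀
  let e : F' ≃+* F := FiniteField.ringEquivOfCardEq (by
    rw [← Nat.card_eq_fintype_card, ← Nat.card_eq_fintype_card, Nat.card_eq_fintype_card, hF', hcardA])
  let eSL : SL(2, F') →* SL(2, F) := Matrix.SpecialLinearGroup.map e.toRingHom
  have heSL : ∀ (m : SL(2, F')) (i j : Fin 2), (eSL m : Matrix (Fin 2) (Fin 2) F) i j =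
      e ((m : Matrix (Fin 2) (Fin 2) F') i j) := fun m i j => rfl
  let ρ : G →* SL(2, F) :=
    eSL.comp (ρ'.toMonoidHom.comp (Subgroup.topEquiv.symm.toMonoidHom.comp mD))
  have hρd : ∀ g, ρ g = eSL (ρ' ⟨mD g, Subgroup.mem_top _⟩) := fun g => rfl
  let ψ : G → Fin 2 → F := fun a =>
    if h : a ∈ U then fun i => e (ψ' (Additive.ofMul (⟨mN a, ⟨a, h, rfl⟩⟩ : U')) i) else 0
  have hψd : ∀ a (ha : a ∈ U), ψ a = fun i => e (ψ' (Additive.ofMul (⟨mN a, ⟨a, ha, rfl⟩⟩ : U')) i) :=
    fun a ha => dif_pos ha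
  have hsurj : Function.Surjective ρ := by
    intro m
    obtain ⟨⟨x, hxt⟩, hx⟩ := ρ'.surjective
      (Matrix.SpecialLinearGroup.map e.symm.toRingHom m)
    obtain ⟨g, rfl⟩ := QuotientGroup.mk'_surjective D x
    refine ⟨g, Subtype.ext ?_⟩
    ext i j
    rw [hρd, heSL, hx]
    show e (e.symm ((m : Matrix (Fin 2) (Fin 2) F) i j)) = _
    rw [e.apply_symm_apply]
  have heinj : Function.Injective eSL := fun a b h => Subtype.ext (by
    ext i j
    have := congrArg (fun m : SL(2, F) => (m : Matrix (Fin 2) (Fin 2) F) i j) h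
    simp only [heSL] at this
    exact e.injective this)
  have hker : ∀ g, ρ g = 1 ↔ ∀ u ∈ U, ⁅g, u⁆ ∈ N := fun g => by
    rw [← hmemD, hρd, ← map_one eSL, heinj.eq_iff, ← map_one ρ', ρ'.injective.eq_iff, Subtype.ext_iff]
    exact QuotientGroup.eq_one_iff g
  have hequiv : ∀ g, ∀ a ∈ U, ψ (g * a * g⁻¹) = (ρ g : Matrix (Fin 2) (Fin 2) F).mulVec (ψ a) := by
    intro g a ha
    rw [hψd a ha, hψd _ (hUn.conj_mem a ha g)]
    have h := hψe ⟨mD g, Subgroup.mem_top _⟩ (Additive.ofMul (⟨mN a, ⟨a, ha, rfl⟩⟩ : U'))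
    have h1 : φ (mD g) (Additive.ofMul (⟨mN a, ⟨a, ha, rfl⟩⟩ : U')) =
        Additive.ofMul (⟨mN (g * a * g⁻¹), ⟨_, hUn.conj_mem a ha g, rfl⟩⟩ : U') := by
      apply Additive.toMul.injective
      apply Subtype.ext
      show mN g * mN a * (mN g)⁻¹ = mN (g * a * g⁻¹)
      rw [map_mul, map_mul, map_inv]
    rw [h1] at h
    ext i
    rw [h]
    simp only [hρd, Matrix.mulVec, dotProduct, Fin.sum_univ_two, heSL, map_add, map_mul]
  have hzero : ∀ a ∈ U, (ψ a = 0 ↔ ∀ g : G, ⁅g, a⁆ ∈ N) := by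
    intro a ha
    rw [hψd a ha]
    have hfx : ∀ g, φ (mD g) (Additive.ofMul (⟨mN a, ⟨a, ha, rfl⟩⟩ : U')) =
        Additive.ofMul (⟨mN a, ⟨a, ha, rfl⟩⟩ : U') ↔ ⁅g, a⁆ ∈ N := by
      intro g
      rw [← QuotientGroup.eq_one_iff (N := N), show ((⁅g, a⁆ : G) : G ⧸ N) = mN ⁅g, a⁆ from rfl,
        map_commutatorElement, commutatorElement_eq_one_iff_mul_comm, ← mul_inv_eq_iff_eq_mul]
      exact ⟨fun h => congrArg (fun w : Additive U' => ((w.toMul : U') : G ⧸ N)) h, fun h =>
        Additive.toMul.injective (Subtype.ext h)⟩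
    constructor
    · intro h g
      have h0 : ψ' (Additive.ofMul (⟨mN a, ⟨a, ha, rfl⟩⟩ : U')) = 0 :=
        funext fun i => e.map_eq_zero_iff.1 (congrFun h i)
      exact (hfx g).1 ((hψ0 _).1 h0 _ (Subgroup.mem_top _))
    · intro h
      have h0 := (hψ0 (Additive.ofMul (⟨mN a, ⟨a, ha, rfl⟩⟩ : U'))).2 fun x _ => by
        obtain ⟨g, rfl⟩ := QuotientGroup.mk'_surjective D x
        exact (hfx g).2 (h g)
      rw [h0]
      exact funext fun i => map_zero e
  have hline : ∀ a ∈ U, ((∀ s ∈ (S : Subgroup G), ⁅s, a⁆ ∈ N) ↔ ψ a 1 = 0) := by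
    intro a ha
    rw [hψd a ha]
    show _ ↔ e _ = 0
    rw [e.map_eq_zero_iff, ← hψA]
    have hfx : ∀ s, φ (mD s) (Additive.ofMul (⟨mN a, ⟨a, ha, rfl⟩⟩ : U')) =
        Additive.ofMul (⟨mN a, ⟨a, ha, rfl⟩⟩ : U') ↔ ⁅s, a⁆ ∈ N := by
      intro g
      rw [← QuotientGroup.eq_one_iff (N := N), show ((⁅g, a⁆ : G) : G ⧸ N) = mN ⁅g, a⁆ from rfl,
        map_commutatorElement, commutatorElement_eq_one_iff_mul_comm, ← mul_inv_eq_iff_eq_mul]
      exact ⟨fun h => congrArg (fun w : Additive U' => ((w.toMul : U') : G ⧸ N)) h, fun h =>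
        Additive.toMul.injective (Subtype.ext h)⟩
    constructor
    · rintro h _ ⟨s, hs, rfl⟩
      exact (hfx s).2 (h s hs)
    · intro h s hs
      exact (hfx s).1 (h _ ⟨s, hs, rfl⟩)
  have honto : ∀ z, ∃ a ∈ U, ψ a = z := by
    intro z
    obtain ⟨v, hv⟩ := hψs fun i => e.symm (z i)
    obtain ⟨a, ha, ea⟩ := (v.toMul : U').2
    refine ⟨a, ha, ?_⟩
    rw [hψd a ha, show (⟨mN a, ⟨a, ha, rfl⟩⟩ : U') = v.toMul from Subtype.ext ea, ofMul_toMul, hv]
    exact funext fun i => e.apply_symm_apply _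
  have hupper : ∀ s ∈ (S : Subgroup G), ∃ c : F, ρ s = upperHom (Multiplicative.ofAdd c) := by
    intro s hs
    obtain ⟨a, ha, hea⟩ := honto ![1, 0]
    have hf := (hline a ha).2 (by rw [hea]; rfl) s hs
    have h1 := hequiv s a ha
    have h2 : ψ (s * a * s⁻¹) = ψ a := by
      rw [hψd _ (hUn.conj_mem a ha s), hψd a ha]
      have : mN (s * a * s⁻¹) = mN a := by
        rw [map_mul, map_mul, map_inv, mul_inv_eq_iff_eq_mul, ← commutatorElement_eq_one_iff_mul_comm,
          ← map_commutatorElement]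
        exact (QuotientGroup.eq_one_iff _).2 hf
      simp only [this]
    rw [h2, hea] at h1
    have h00 := congrFun h1 0
    have h10 := congrFun h1 1
    simp [Matrix.mulVec, dotProduct, Fin.sum_univ_two] at h00 h10
    have hdet := (ρ s).det_coe
    rw [Matrix.det_fin_two, ← h00, ← h10] at hdet
    refine ⟨(ρ s : Matrix (Fin 2) (Fin 2) F) 0 1, Subtype.ext ?_⟩
    rw [upperHom_coe, toAdd_ofAdd]
    ext i j
    fin_cases i <;> fin_cases j
    · exact h00.symm
    · rfl
    · exact h10.symm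
    · simpa using hdet
  have hinf : ∀ s ∈ (S : Subgroup G), ρ s = 1 ↔ s ∈ Q := fun s hs => by
    rw [hker, ← hmemD]
    exact ⟨fun h => hDS ⟨h, hs⟩, fun h => hQD h⟩
  have hupperonto : ∀ c : F, ∃ s ∈ (S : Subgroup G), ρ s = upperHom (Multiplicative.ofAdd c) := by
    intro c
    have hle : ((S : Subgroup G).map ρ) ≤ (upperHom (F := F)).range := by
      rintro _ ⟨s, hs, rfl⟩
      obtain ⟨c, hc⟩ := hupper s hs
      exact ⟨_, hc.symm⟩
    have h := Subgroup.card_eq_card_quotient_mul_card_subgroup (ρ.comp (S : Subgroup G).subtype).ker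
    have e' : (ρ.comp (S : Subgroup G).subtype).ker = (Q).subgroupOf (S : Subgroup G) := by
      ext ⟨s, hs⟩
      rw [MonoidHom.mem_ker, Subgroup.mem_subgroupOf]
      exact hinf s hs
    rw [Nat.card_congr (QuotientGroup.quotientKerEquivRange _).toEquiv, MonoidHom.range_comp,
      Subgroup.range_subtype, e', card_S st,
      Nat.card_congr (Subgroup.subgroupOfEquivOfLe (pCore_le S)).toEquiv] at h
    have heq : (S : Subgroup G).map ρ = (upperHom (F := F)).range := by
      refine Subgroup.eq_of_le_of_card_ge hle ?_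
      rw [← Nat.eq_of_mul_eq_mul_right Nat.card_pos h,
        Nat.card_congr (MonoidHom.ofInjective (upperHom_injective (F := F))).symm.toEquiv]
      exact (Nat.card_congr Multiplicative.toAdd).le
    obtain ⟨s, hs, es⟩ := heq.ge ⟨Multiplicative.ofAdd c, rfl⟩
    exact ⟨s, hs, es⟩
  have hborel : ∀ g, g ∈ M ↔ (ρ g : Matrix (Fin 2) (Fin 2) F) 1 0 = 0 := by
    have hlt : (borelSL (F := F)).comap ρ ≤ M := by
      refine st.uniq _ (fun s hs => ?_) fun h => ?_
      · obtain ⟨c, hc⟩ := hupper s hs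
        rw [Subgroup.mem_comap, mem_borelSL, hc, upperHom_coe]
        simp
      · obtain ⟨g, hg⟩ := hsurj wm
        have := h.ge (Subgroup.mem_top g)
        rw [Subgroup.mem_comap, mem_borelSL, hg, wm_coe] at this
        simp at this
    intro g
    refine ⟨fun hg => ?_, fun h => hlt h⟩
    by_contra hn
    refine st.ne (eq_top_iff.2 fun x _ => ?_)
    have htop : M.map ρ = ⊤ := eq_top_of_upper_and_conj _ (ρ g) hn
      (fun b => by
        obtain ⟨s, hs, es⟩ := hupperonto b.toAdd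
        exact ⟨s, st.le hs, es⟩)
      (fun b => by
        obtain ⟨s, hs, es⟩ := hupperonto b.toAdd
        refine ⟨g * s * g⁻¹, mul_mem (mul_mem hg (st.le hs)) (inv_mem hg), ?_⟩
        rw [map_mul, map_mul, map_inv, es]
        rfl)
    obtain ⟨m, hm, em⟩ := htop.ge (Subgroup.mem_top (ρ x))
    rw [show x = m * (m⁻¹ * x) by group]
    refine mul_mem hm (hDMle ((hmemD _).2 ((hker _).1 ?_)))
    rw [map_mul, map_inv, em, inv_mul_cancel]
  refine ⟨ρ, ψ, hsurj, hker, fun a ha b hb => ?_, hzero, honto, hequiv, hupper, hupperonto, hinf, hline,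
    hborel⟩
  rw [hψd a ha, hψd b hb, hψd _ (mul_mem ha hb)]
  ext i
  show e _ = e _ + e _
  rw [← map_add]
  congr 1
  rw [← Pi.add_apply, ← map_add]
  congr 2

end CfsgLib.PushRankOne
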